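import Cfsg.Agent.Lib.DefChar.PMin.General
import Cfsg.Agent.Lib.DefChar.Overgroup.BN

/-!
# Simple groups with a split `(B, N)`-pair: the three configurations

A proper overgroup of `U` lies in a maximal parabolic subgroup; parabolic subgroups are moved to parabolic
subgroups by the automorphisms keeping `U`.
-/

set_option autoImplicit false
set_option linter.unusedSectionVars false

namespace Cfsg.Lib.DefChar.PMin

open Subgroup Cfsg.Lib.Linear.BN Cfsg.Lib.DefChar

variable {G : Type*} [Group G] [Finite G] [IsSimpleGroup G] {p : ℕ} [hp : Fact p.Prime]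

/-- A subgroup containing every conjugate of a non-trivial subgroup is everything. -/
theorem eq_top_of_conj {U M : Subgroup G} (hU : U ≠ ⊥) (h : ∀ g : G, ∀ x ∈ U, g * x * g⁻¹ ∈ M) : M = ⊤ := by
  rcases IsSimpleGroup.eq_bot_or_eq_top_of_normal M.normalCore inferInstance with e | e
  · exact absurd (le_bot_iff.1 (e ▸ fun x hx g => h g x hx)) hU
  · exact top_le_iff.1 (e ▸ Subgroup.normalCore_le M)

/-- An automorphism maps a subgroup to itself when an inner adjustment from inside it does. -/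
theorem map_eq_of_conj {G : Type*} [Group G] [Finite G] {A : Subgroup G} {θ : MulAut G} {x : G} (hx : x ∈ A)
    (h : ∀ a ∈ A, (MulAut.conj x * θ) a ∈ A) : A.map θ.toMonoidHom = A := by
  refine Subgroup.eq_of_le_of_card_ge ?_ (Nat.card_congr (A.equivMapOfInjective _ θ.injective).toEquiv).le
  rintro _ ⟨a, ha, rfl⟩
  have := mul_mem (mul_mem (inv_mem hx) (h a ha)) hx
  simpa [mul_assoc] using this

variable {P : Cfsg.BNPair G} {U : Subgroup G} (H : SplitPair p P U)
include H

theorem B_le_normalizer : P.B ≤ normalizer (U : Set G) := fun b hb => mem_normalizer_iff.2 fun x => by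
  refine ⟨fun hx => H.conj_B hb hx, fun hx => ?_⟩
  have := H.conj_B (inv_mem hb) hx
  simpa [mul_assoc] using this

theorem ne_bot (hS : P.S.Nonempty) : U ≠ ⊥ := fun h => by
  obtain ⟨s, hs⟩ := hS
  obtain ⟨R, hR, hRU, -⟩ := H.rad s hs
  exact hR (le_bot_iff.1 (h ▸ hRU))

theorem base_bn (hS : P.S.Nonempty) : Base p U := by
  refine ⟨H.pU, H.index, fun h => ?_⟩
  haveI := Subgroup.normalizer_eq_top_iff.1 h
  obtain ⟨s, hs⟩ := hS
  rcases IsSimpleGroup.eq_bot_or_eq_top_of_normal U inferInstance with e | e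
  · exact ne_bot H ⟨s, hs⟩ e
  · exact not_mem_B hs (H.U_le (e ▸ Subgroup.mem_top s))

theorem parabolic_ne_top {J : Set G} (hJ : J ⊆ P.S) {s : G} (hs : s ∈ P.S) (hsJ : s ∉ J) : P.parabolic J ≠ ⊤ :=
  fun h => hsJ (by rw [← S_inter_parabolic hJ]; exact ⟨hs, h ▸ Subgroup.mem_top s⟩)

theorem U_le_parabolic (J : Set G) : U ≤ P.parabolic J := H.U_le.trans (B_le_parabolic J)

/-- A proper overgroup lies in a maximal parabolic subgroup. -/
theorem exists_le_parabolic (hS : P.S.Nonempty) {M : Subgroup G} (hUM : U ≤ M) (hM : M ≠ ⊤) :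
    ∃ s ∈ P.S, M ≤ P.parabolic (P.S \ {s}) := by
  obtain ⟨s, hs, hsn⟩ : ∃ s ∈ P.S, s ∉ SplitPair.meets P M := by
    by_contra hno
    push Not at hno
    exact hM (eq_top_of_conj (ne_bot H hS) (H.conj_mem_of_meets hUM hno))
  exact ⟨s, hs, (H.le_parabolic hUM).trans
    (parabolic_mono (Set.subset_sdiff_singleton (fun x hx => hx.1) hsn))⟩

/-- One generator. -/
theorem rankOne_bn {s : G} (hS : P.S = {s}) : RankOne p G := by
  have hne : P.S.Nonempty := ⟨s, by rw [hS]; rfl⟩
  refine ⟨U, base_bn H hne, fun M hM => (em (M = ⊤)).elim Or.inr fun hM' => Or.inl (le_antisymm ?_ hM)⟩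
  obtain ⟨x, hx, hle⟩ := exists_le_parabolic H hne (Subgroup.le_normalizer.trans hM) hM'
  rw [hS, Set.mem_singleton_iff] at hx
  subst hx
  rw [hS, Set.sdiff_self] at hle
  refine hle.trans (sup_le (B_le_normalizer H) ((Subgroup.closure_le _).2 (Set.empty_subset _)))

/-- Two generators. -/
theorem pair_bn {s t : G} (hS : P.S = {s, t}) (hst : s ≠ t) : Pair p G := by
  have hne : P.S.Nonempty := ⟨s, by rw [hS]; exact Or.inl rfl⟩
  have hsS : s ∈ P.S := by rw [hS]; exact Or.inl rfl
  have htS : t ∈ P.S := by rw [hS]; exact Or.inr rfl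
  refine ⟨U, P.parabolic {s}, P.parabolic {t}, base_bn H hne, U_le_parabolic H _, U_le_parabolic H _,
    parabolic_ne_top H (Set.singleton_subset_iff.2 hsS) htS (Ne.symm hst),
    parabolic_ne_top H (Set.singleton_subset_iff.2 htS) hsS hst, top_le_iff.1 ?_, ?_, fun M hUM hM => ?_⟩
  · rw [← parabolic_S_eq_top (P := P), hS]
    refine sup_le ((B_le_parabolic _).trans le_sup_left) ((Subgroup.closure_le _).2 ?_)
    rintro x (rfl | rfl)
    · exact Subgroup.mem_sup_left (subset_parabolic _ rfl)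
    · exact Subgroup.mem_sup_right (subset_parabolic _ rfl)
  · rw [parabolic_inf (Set.singleton_subset_iff.2 hsS) (Set.singleton_subset_iff.2 htS)]
    refine sup_le (B_le_normalizer H) ((Subgroup.closure_le _).2 ?_)
    rintro x ⟨h1, h2⟩
    exact absurd ((Set.mem_singleton_iff.1 h1).symm.trans (Set.mem_singleton_iff.1 h2)) hst
  · obtain ⟨x, hx, hle⟩ := exists_le_parabolic H hne hUM hM
    rw [hS] at hx hle
    rcases hx with rfl | rfl
    · exact Or.inr (hle.trans (parabolic_mono (by rintro y ⟨rfl | rfl, h⟩; exacts [absurd rfl h, rfl])))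
    · exact Or.inl (hle.trans (parabolic_mono (by rintro y ⟨rfl | rfl, h⟩; exacts [rfl, absurd rfl h])))

/-- Two stable sets of generators. -/
theorem split_bn {J₁ J₂ : Set G} (h1 : J₁ ⊆ P.S) (h2 : J₂ ⊆ P.S) (hcover : P.S ⊆ J₁ ∪ J₂)
    (hn1 : ∃ s ∈ P.S, s ∉ J₁) (hn2 : ∃ s ∈ P.S, s ∉ J₂)
    (hst : ∀ θ : MulAut G, Acts p U θ →
      (P.parabolic J₁).map θ.toMonoidHom = P.parabolic J₁ ∧ (P.parabolic J₂).map θ.toMonoidHom = P.parabolic J₂) :
    Split p G := by
  obtain ⟨s, hs, hs1⟩ := hn1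
  obtain ⟨t, ht, ht2⟩ := hn2
  refine ⟨U, P.parabolic J₁, P.parabolic J₂, base_bn H ⟨s, hs⟩, U_le_parabolic H _, U_le_parabolic H _,
    parabolic_ne_top H h1 hs hs1, parabolic_ne_top H h2 ht ht2, top_le_iff.1 ?_, hst⟩
  rw [← parabolic_S_eq_top (P := P)]
  refine sup_le ((B_le_parabolic _).trans le_sup_left) ((Subgroup.closure_le _).2 fun x hx => ?_)
  rcases hcover hx with h | h
  · exact Subgroup.mem_sup_left (subset_parabolic _ h)
  · exact Subgroup.mem_sup_right (subset_parabolic _ h)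

end Cfsg.Lib.DefChar.PMin
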