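import Cfsg.Agent.Lib.DefChar.PMin.BN
import Cfsg.Agent.Lib.DefChar.Overgroup.Chev
import Cfsg.Agent.Lib.Chev.AutTypes
import Cfsg.Agent.Lib.Chev.D4Equiv
import Cfsg.Agent.S1055

/-!
# The Chevalley groups of the exceptional types

An automorphism keeping the maximal unipotent subgroup permutes the parabolic subgroups through a symmetry of the
diagram, so a set of nodes kept by these symmetries gives two stable parabolic subgroups.
-/

set_option autoImplicit false
set_option linter.unusedSectionVars false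
set_option maxRecDepth 100000

namespace Cfsg.Lib.DefChar.PMin

open Cfsg Cfsg.Lie Cfsg.Lib.Chev Cfsg.Lib.DefChar Cfsg.Lib.Linear.BN Subgroup

section Generic

variable {D : ChevalleyDatum} {T : Tbl} {F : Type*} [Field F] (C : Cert D T) (K : FullCert D T)

/-- The representative of a fundamental reflection. -/
noncomputable def refEl (i : Fin D.rank) : ↥(D.group F) := ⟨nu C (i : ℕ), monomial_le_group C (nu_mem C i i.2)⟩

theorem S_eq : (bnPair C K F).S = Set.range (refEl C) := by
  ext n
  constructor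
  · rintro ⟨i, hi, e⟩
    exact ⟨⟨i, hi⟩, Subtype.ext ((eq_nu_iff C hi).1 e).symm⟩
  · rintro ⟨i, rfl⟩
    exact ⟨i, i.2, (eq_nu_iff C i.2).2 rfl⟩

include K in
theorem refEl_injective : Function.Injective (refEl (F := F) C) := fun i j h => Fin.ext (nu_inj C K i.2 j.2 (F := F) (by
  rw [show (nu C (i : ℕ) : GL D.Idx F) = nu C (j : ℕ) from congrArg Subtype.val h, inv_mul_cancel]
  exact one_mem _))

/-- The parabolic subgroup of a set of nodes. -/
noncomputable def par (J : Set (Fin D.rank)) : Subgroup ↥(D.group F) := (bnPair C K F).parabolic (refEl C '' J)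

/-- An automorphism keeping the unipotent group moves the parabolic subgroups by a symmetry of the diagram. -/
theorem exists_par_perm [Finite F] (A : AutData D T) (θ : MulAut ↥(D.group F))
    (hθ : ((D.posUnipotent F).subgroupOf (D.group F)).map θ.toMonoidHom = (D.posUnipotent F).subgroupOf (D.group F)) :
    ∃ (ψ : MulAut ↥(D.group F)) (π : Equiv.Perm (Fin D.rank)) (σ : Fin D.rank → F ≃+* F),
      RootAct C ψ π (fun i t => σ i t) (fun i t => σ i t) ∧ D.IsDiagramSymmetry π ∧
      ∀ J : Set (Fin D.rank), (∀ i ∈ J, π i ∈ J) → (par (F := F) C K J).map θ.toMonoidHom = par C K J := by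
  obtain ⟨w, τ, O⟩ := A.opp
  obtain ⟨x, hU, hV⟩ := exists_inner_normalise C A.full O θ
  obtain ⟨π, c, σ, hact⟩ := exists_rootAct C A.full O A.commNeg hU hV
  obtain ⟨δ', -, hδa', -⟩ := exists_diag C A fun k => (c (π.symm k))⁻¹
  have hψ : RootAct C (δ' * (MulAut.conj x * θ)) π (fun i t => σ i t) (fun i t => σ i t) :=
    (hδa'.comp C hact).congr C (fun _ => rfl) (fun i t => by simp) fun i t => by simp
  refine ⟨_, π, σ, hψ, isDiagramSymmetry_of_rootAct C A hψ, fun J hJ => ?_⟩
  have hB : AutKeeps (MulAut.conj x * θ) (bnPair C K F).B := by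
    have := hU.normalizer
    rw [normalizer_posG C A.full] at this
    exact this
  have hxB : x ∈ (bnPair C K F).B := by
    show x ∈ (D.borelSubgroup F).subgroupOf (D.group F)
    rw [← normalizer_posG C A.full, Subgroup.mem_normalizer_iff]
    intro u
    obtain ⟨v, rfl⟩ := θ.surjective u
    rw [show x * θ v * x⁻¹ = (MulAut.conj x * θ) v from rfl, hU v]
    conv_lhs => rw [← hθ]
    exact Subgroup.mem_map_iff_mem θ.injective
  refine map_eq_of_conj (B_le_parabolic _ hxB) fun a ha => ?_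
  suffices h : par (F := F) C K J ≤ (par (F := F) C K J).comap (MulAut.conj x * θ).toMonoidHom from h ha
  refine sup_le (fun b hb => B_le_parabolic _ ((hB b).2 hb)) ((Subgroup.closure_le _).2 ?_)
  rintro _ ⟨i, hi, rfl⟩
  show (MulAut.conj x * θ) (refEl C i) ∈ par C K J
  have hp := fun k : Fin D.rank => C.spec.simp_lt k k.2
  have e : ∀ (k : Fin D.rank) (u : F), (⟨ng C (T.simp' k) u, ng_mem_group C _ _⟩ : ↥(D.group F)) =
      autEl C (T.simp' k) u * autEl C (T.neg (T.simp' k)) (-u⁻¹) * autEl C (T.simp' k) u := fun k u => Subtype.ext (by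
    show ng C (T.simp' k) u = _
    rw [ng, C.spec.shape.neg_eq _ (hp k)]; rfl)
  rw [show refEl (F := F) C i = ⟨ng C (T.simp' i) (1 : F), ng_mem_group C _ _⟩ from rfl, e, map_mul, map_mul,
    hact.pos, hact.neg, map_neg, map_inv₀, map_one, inv_one, mul_one, mul_neg, mul_one, Units.val_inv_eq_inv_val,
    ← e]
  have hc : (c i : F) ≠ 0 := (c i).ne_zero
  rw [show (⟨ng C (T.simp' (π i)) (c i : F), ng_mem_group C _ _⟩ : ↥(D.group F)) =
    ⟨hg C (T.simp' (π i)) (c i : F), diag_le_group C (hg_mem C (hp _) hc)⟩ * refEl C (π i) from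
      Subtype.ext (ng_eq C (hp (π i)) (c i : F))]
  exact mul_mem (B_le_parabolic _ (Subgroup.mem_sup_right (hg_mem C (hp _) hc)))
    (subset_parabolic _ ⟨π i, hJ i hi, rfl⟩)

variable [Finite F] {p : ℕ} [Fact p.Prime] [CharP F p] [IsSimpleGroup ↥(D.group F)]

/-- A set of nodes kept by the symmetries that occur. -/
theorem split_chev (A : AutData D T) (J : Set (Fin D.rank)) {i j : Fin D.rank} (hi : i ∈ J) (hj : j ∉ J)
    (hst : ∀ (ψ : MulAut ↥(D.group F)) (π : Equiv.Perm (Fin D.rank)) (σ : Fin D.rank → F ≃+* F),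
      RootAct C ψ π (fun k t => σ k t) (fun k t => σ k t) → D.IsDiagramSymmetry π → ∀ k ∈ J, π k ∈ J) :
    Split p ↥(D.group F) := by
  have hsub : ∀ J' : Set (Fin D.rank), refEl (F := F) C '' J' ⊆ (bnPair C A.full F).S := fun J' => by
    rw [S_eq]; exact Set.image_subset_range _ _
  have hmem : ∀ k, refEl (F := F) C k ∈ (bnPair C A.full F).S := fun k => by rw [S_eq]; exact Set.mem_range_self k
  refine split_bn (chev_splitPair (p := p) C A.full) (hsub J) (hsub Jᶜ) ?_
    ⟨_, hmem j, fun ⟨k, hk, e⟩ => hj (refEl_injective C A.full e ▸ hk)⟩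
    ⟨_, hmem i, fun ⟨k, hk, e⟩ => hk (refEl_injective C A.full e ▸ hi)⟩ fun θ hθ => ?_
  · rw [S_eq, ← Set.image_union, Set.union_compl_self, Set.image_univ]
  obtain ⟨ψ, π, σ, hψ, hsym, hmap⟩ := exists_par_perm C A.full A θ hθ.2
  have hJ := hst ψ π σ hψ hsym
  refine ⟨hmap J hJ, hmap Jᶜ fun k hk hπ => hk ?_⟩
  obtain ⟨k', e⟩ : ∃ k' : J, (⟨π k', hJ k' k'.2⟩ : J) = ⟨π k, hπ⟩ := by
    have hs : Function.Surjective (fun x : J => (⟨π x, hJ x x.2⟩ : J)) :=
      Finite.surjective_of_injective fun a b e => Subtype.ext (π.injective (congrArg Subtype.val e))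
    exact hs ⟨π k, hπ⟩
  exact π.injective (congrArg Subtype.val e) ▸ k'.2

/-- The nodes with one neighbour. -/
def IsEnd (T : Tbl) (n i : ℕ) : Prop :=
  ((Finset.range n).filter fun j => j ≠ i ∧ bondT T i j ≠ 0).card = 1

include C in
omit [Finite F] [CharP F p] [IsSimpleGroup ↥(D.group F)] in
theorem isEnd_symm {π : Equiv.Perm (Fin D.rank)} (h : D.IsDiagramSymmetry π) (i : Fin D.rank)
    (hi : IsEnd T D.rank i) : IsEnd T D.rank (π i) := by
  have hb : ∀ x y : Fin D.rank, D.bonds x y = bondT T x y := fun x y => by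
    rw [ChevalleyDatum.bonds, bondT, C.spec.shape.simple_eq _ x.2, C.spec.shape.simple_eq _ y.2,
      C.spec.shape.cartan_eq _ x.2 _ (C.spec.simp_lt _ y.2), C.spec.shape.cartan_eq _ y.2 _ (C.spec.simp_lt _ x.2)]
  have hkey : ∀ k : Fin D.rank, ((Finset.range D.rank).filter fun j => j ≠ (k : ℕ) ∧ bondT T k j ≠ 0).card =
      (Finset.univ.filter fun j : Fin D.rank => j ≠ k ∧ D.bonds k j ≠ 0).card := fun k => by
    symm
    refine Finset.card_bij (fun j _ => (j : ℕ)) (fun j hj => ?_) (fun a _ b _ e => Fin.val_injective e) fun j hj => ?_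
    · simp only [Finset.mem_filter, Finset.mem_univ, true_and, hb] at hj
      simp only [Finset.mem_filter, Finset.mem_range]
      exact ⟨j.2, fun e => hj.1 (Fin.ext e), hj.2⟩
    · simp only [Finset.mem_filter, Finset.mem_range] at hj
      refine ⟨⟨j, hj.1⟩, ?_, rfl⟩
      simp only [Finset.mem_filter, Finset.mem_univ, true_and, hb]
      exact ⟨fun e => hj.2.1 (congrArg Fin.val e), hj.2.2⟩
  unfold IsEnd at hi ⊢
  rw [hkey] at hi ⊢
  rw [← hi]
  refine (Finset.card_bij (fun j _ => π j) (fun j hj => ?_) (fun a _ b _ e => π.injective e) fun j hj => ?_).symm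
  · simp only [Finset.mem_filter, Finset.mem_univ, true_and] at hj ⊢
    exact ⟨π.injective.ne hj.1, by rw [h i j (Ne.symm hj.1)]; exact hj.2⟩
  · simp only [Finset.mem_filter, Finset.mem_univ, true_and] at hj
    refine ⟨π.symm j, ?_, π.apply_symm_apply j⟩
    simp only [Finset.mem_filter, Finset.mem_univ, true_and]
    have hne : π.symm j ≠ i := fun e => hj.1 (by rw [← e, π.apply_symm_apply])
    have e := h i (π.symm j) (Ne.symm hne)
    rw [π.apply_symm_apply] at e
    exact ⟨hne, e ▸ hj.2⟩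

theorem split_ends (A : AutData D T) {i j : ℕ} (hi : i < D.rank) (hj : j < D.rank)
    (h1 : IsEnd T D.rank i) (h2 : ¬ IsEnd T D.rank j) : Split p ↥(D.group F) :=
  split_chev A.full.comm.cert A {k | IsEnd T D.rank k} (i := ⟨i, hi⟩) (j := ⟨j, hj⟩) h1 h2
    fun _ _ _ _ hsym k hk => isEnd_symm A.full.comm.cert hsym k hk

end Generic

section Types

variable {K : Type*} [Group K] {p : ℕ} [Fact p.Prime] {F : Type} [Field F] [Fintype F] [CharP F p]

theorem ends_D4 : IsEnd tblD4 chevD4.rank 0 ∧ ∃ j < chevD4.rank, ¬ IsEnd tblD4 chevD4.rank j := by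
  unfold IsEnd; decide +kernel
theorem ends_F4 : IsEnd tblF4 chevF4.rank 0 ∧ ∃ j < chevF4.rank, ¬ IsEnd tblF4 chevF4.rank j := by
  unfold IsEnd; decide +kernel
theorem ends_E6 : IsEnd tblE6 chevE6.rank 0 ∧ ∃ j < chevE6.rank, ¬ IsEnd tblE6 chevE6.rank j := by
  unfold IsEnd; decide +kernel
theorem ends_E7 : IsEnd tblE7 chevE7.rank 0 ∧ ∃ j < chevE7.rank, ¬ IsEnd tblE7 chevE7.rank j := by
  unfold IsEnd; decide +kernel
theorem ends_E8 : IsEnd tblE8 chevE8.rank 0 ∧ ∃ j < chevE8.rank, ¬ IsEnd tblE8 chevE8.rank j := by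
  unfold IsEnd; decide +kernel

theorem split_chev_ends {D : ChevalleyDatum} {T : Tbl} (A : AutData D T)
    (h : IsEnd T D.rank 0 ∧ ∃ j < D.rank, ¬ IsEnd T D.rank j) (e : K ≃* ↥(D.group F))
    (hs : IsSimpleGroup ↥(D.group F)) : Split p K := by
  haveI := hs
  obtain ⟨h0, j, hj, hj'⟩ := h
  exact (split_ends A A.rank_pos hj h0 hj').of_equiv e.symm

theorem kind_chevD4 (e : K ≃* ↥(chevD4.group F)) : Kind p K :=
  Or.inr (Or.inl (split_chev_ends autDataD4 ends_D4 e (Cfsg.Agent.S1054.result chevD4 (by simp)).1))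

theorem kind_chevF4 (e : K ≃* ↥(chevF4.group F)) : Kind p K :=
  Or.inr (Or.inl (split_chev_ends autDataF4 ends_F4 e (Cfsg.Agent.S1054.result chevF4 (by simp)).1))

theorem kind_chevE6 (e : K ≃* ↥(chevE6.group F)) : Kind p K :=
  Or.inr (Or.inl (split_chev_ends autDataE6 ends_E6 e (Cfsg.Agent.S1054.result chevE6 (by simp)).1))

theorem kind_chevE7 (e : K ≃* ↥(chevE7.group F)) : Kind p K :=
  Or.inr (Or.inl (split_chev_ends autDataE7 ends_E7 e (Cfsg.Agent.S1054.result chevE7 (by simp)).1))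

theorem kind_chevE8 (e : K ≃* ↥(chevE8.group F)) : Kind p K :=
  Or.inr (Or.inl (split_chev_ends autDataE8 ends_E8 e (Cfsg.Agent.S1054.result chevE8 (by simp)).1))

theorem kind_pomega_plus_four (e : K ≃* Cfsg.POmega F (Cfsg.quadFormPlus 4 F)) : Kind p K :=
  kind_chevD4 (e.trans (Cfsg.Lib.Chev.D4Orth.nonempty_equiv (F := F)).some.symm)

theorem kind_chevG2 (h3 : 3 ≤ Fintype.card F) (e : K ≃* ↥(chevG2.group F)) : Kind p K := by
  classical
  haveI : IsSimpleGroup ↥(chevG2.group F) := (Cfsg.Agent.S1055.result (by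
    by_contra hno
    push Not at hno
    have : (Finset.univ : Finset F) ⊆ {0, 1} := fun a _ => by
      by_cases ha : a = 0
      · simp [ha]
      · simp [hno a ha]
    have := (Finset.card_le_card this).trans Finset.card_le_two
    rw [Finset.card_univ] at this
    omega)).1
  refine Or.inr (Or.inl (Split.of_equiv e.symm ?_))
  let C := fullCertG2.comm.cert
  by_cases hp : p = 2
  · subst hp
    refine split_chev C autDataG2 {(⟨0, by decide⟩ : Fin chevG2.rank)} (i := ⟨0, by decide⟩) (j := ⟨1, by decide⟩) rfl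
      (fun h => by simpa using congrArg Fin.val (Set.mem_singleton_iff.1 h)) fun ψ π σ hψ _ k hk => ?_
    obtain rfl := Set.mem_singleton_iff.1 hk
    show π _ = _
    by_contra hne
    have h0 : (π ⟨0, by decide⟩ : ℕ) = 1 := by
      have h2 : (π ⟨0, by decide⟩ : ℕ) < 2 := (π _).2
      have h1 : (π ⟨0, by decide⟩ : ℕ) ≠ 0 := fun h => hne (Fin.ext h)
      omega
    have h1 : (π ⟨1, by decide⟩ : ℕ) = 0 := by
      have h2 : (π ⟨1, by decide⟩ : ℕ) < 2 := (π _).2
      have h3 : (π ⟨1, by decide⟩ : ℕ) ≠ 1 := fun h =>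
        absurd (congrArg Fin.val (π.injective (Fin.ext (h.trans h0.symm)))) (by simp)
      omega
    haveI := swap_mem_G2 hψ (List.ext_getElem (by simp [permList, show chevG2.rank = 2 from rfl]) fun n hn hn' => by
      simp only [List.length_cons, List.length_nil] at hn'
      simp only [permList, List.getElem_ofFn]
      interval_cases n
      · exact h0
      · exact h1)
    exact absurd (CharP.eq F (‹CharP F 2› : CharP F 2) (‹CharP F 3› : CharP F 3)) (by decide)
  · refine Pair.split hp ?_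
    refine pair_bn (chev_splitPair (p := p) C autDataG2.full) (s := refEl C ⟨0, by decide⟩) (t := refEl C ⟨1, by decide⟩)
      ?_ fun h => by simpa using congrArg Fin.val (refEl_injective C autDataG2.full h)
    rw [S_eq]
    ext n
    constructor
    · rintro ⟨⟨i, hi⟩, rfl⟩
      change i < 2 at hi
      interval_cases i
      · exact Or.inl rfl
      · exact Or.inr rfl
    · rintro (rfl | rfl) <;> exact Set.mem_range_self _

end Types

end Cfsg.Lib.DefChar.PMin
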