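import Cfsg.Agent.Lib.DefChar.PMin.Polar
import Cfsg.Agent.Lib.DefChar.Classical
import Cfsg.Agent.Lib.Linear.Steinberg.OrthInst
import Cfsg.Agent.Lib.Linear.Steinberg.Plus
import Cfsg.Agent.Lib.Linear.AutPSp.Main
import Cfsg.Agent.Lib.Linear.AutPSU.Main
import Cfsg.Agent.Lib.Linear.AutPO.Main
import Cfsg.Agent.Lib.Linear.AutPO.Std
import Cfsg.Agent.Lib.Linear.OrthSpinorApp

/-!
# The classical families: overgroups of a Sylow subgroup in the defining characteristic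
-/

set_option autoImplicit false
set_option linter.unusedSectionVars false
set_option maxHeartbeats 1000000

namespace Cfsg.Lib.DefChar.PMin

open Cfsg.Lib.Linear.Steinberg Cfsg.Lib.DefChar Module
open Cfsg.Lib.DefChar.InnerFix (Semisim)
open scoped Matrix

variable {F : Type} [Field F] [Fintype F] {p : ℕ} [hp : Fact p.Prime] [CharP F p]

open Cfsg.Lib.Linear.Symp in
/-- The symplectic family. -/
theorem kind_psp {m : ℕ} (hm : 2 ≤ m) (hq : m = 2 → 3 ≤ Fintype.card F) (hK : Cfsg.IsChevSimple p (Cfsg.PSp m F)) :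
    Kind p (Cfsg.PSp m F) := by
  have hnd : ∀ x, (∀ y, (sympPolar m F).β x y = 0) → x = 0 := (spB_nondegenerate m F).1
  have hsc : ∀ z ∈ (QuotientGroup.mk' (Subgroup.center ↥(Matrix.symplecticGroup (Fin m) F))).ker,
      ∃ a : F, ∀ v, (sympHom m F z : (Fin m ⊕ Fin m → F) ≃ₗ[F] (Fin m ⊕ Fin m → F)) v = a • v := fun z hz => by
    rw [QuotientGroup.ker_mk'] at hz
    have hz' : spEquiv (m := m) (F := F) z ∈ Subgroup.center (iso (spB m F)) :=
      Subgroup.mem_center_iff.2 fun k => by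
        obtain ⟨k', rfl⟩ := (spEquiv (m := m) (F := F)).surjective k
        rw [← map_mul, ← map_mul, Subgroup.mem_center_iff.1 hz k']
    obtain ⟨a, -, ha⟩ := (mem_center_iff_smul (spB_nondegenerate m F) (spB_isAlt m F) _).1 hz'
    exact ⟨a, ha⟩
  have hl : Line (P := sympPolar m F) (sympHom m F) := fun e _ _ => by
    have halt : ∀ x, (sympPolar m F).β x x = 0 := spB_isAlt m F
    have hskew : ∀ x y, (sympPolar m F).β x y = -(sympPolar m F).β y x := fun x y => by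
      rw [(sympPolar m F).herm y x]; simp [sympPolar]
    have hσ : ∀ c, (sympPolar m F).σ c = c := fun _ => rfl
    obtain ⟨w, hw⟩ := exists_iso_of_map hnd (rootMap (sympPolar m F) e 0 0 0 1) (fun x y => by
      simp only [rootMap_apply, one_mul, zero_mul, zero_smul, add_zero, Polar.add_left, Polar.add_right,
        Polar.smul_left, Polar.smul_right, hσ, halt, mul_zero]
      rw [hskew e y]; ring) (fun _ => rfl)
    obtain ⟨A, rfl⟩ := sympHom_surjective m F w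
    exact ⟨A, 1, one_ne_zero, fun v => by rw [hw, rootMap_apply]; simp⟩
  have hR := rich_symp (F := F) m hm
  have hH := symp_good (m := m) (F := F) p
  have hdec : (m = 2 → p ≠ 2) → Split p (Cfsg.PSp m F) := fun hmp =>
    split_polar hH hR (QuotientGroup.mk' _) (QuotientGroup.mk'_surjective _) (QuotientGroup.ker_mk' _).le hsc hK hm
      (Or.inl hl) fun θ => by
        obtain ⟨g, σ, rfl⟩ := Cfsg.Lib.Linear.AutPSp.exists_decomp p hm hmp θ
        obtain ⟨c, hc⟩ := Cfsg.Lib.Linear.AutPSp.mem_GSp_iff.1 g.2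
        refine ⟨⟨AddMonoidHom.mk' (fun v => g.1.1 *ᵥ (σ ∘ v)) (fun a b => ?_), σ, c, fun a b h => ?_, fun a v => ?_,
          fun a b => ?_, fun a => by simp [sympPolar]⟩, fun x => ?_⟩
        · rw [← Matrix.mulVec_add]; congr 1; funext i; simp
        · exact funext fun i => σ.injective (congrFun (Matrix.mulVec_injective_iff_isUnit.2 g.1.isUnit h) i)
        · show g.1.1 *ᵥ (σ ∘ (a • v)) = σ a • g.1.1 *ᵥ (σ ∘ v)
          rw [← Matrix.mulVec_smul]; congr 1; funext i; simp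
        · show spB m F _ _ = _
          exact (hc _ _).trans (by rw [Cfsg.Lib.Linear.AutPSp.form_map]; rfl)
        · refine ⟨Cfsg.Lib.Linear.AutPSp.cnj g (Cfsg.Lib.Linear.AutPSp.frob σ x), rfl, fun v => ?_⟩
          show (g.1.1 * x.1.map σ * (g.1⁻¹).1) *ᵥ (g.1.1 *ᵥ (σ ∘ v)) = g.1.1 *ᵥ (σ ∘ (x.1 *ᵥ v))
          rw [Matrix.mulVec_mulVec, Matrix.mul_assoc, Units.inv_mul, Matrix.mul_one, ← Matrix.mulVec_mulVec]
          congr 1
          funext i; simp [Matrix.mulVec, dotProduct, map_sum]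
  by_cases hmp : m = 2 → p ≠ 2
  · exact Or.inr (Or.inl (hdec hmp))
  obtain ⟨rfl, hp2⟩ : m = 2 ∧ p = 2 := by simpa using hmp
  refine Or.inr (Or.inr ⟨pair_polar hH hR (QuotientGroup.mk' _) (QuotientGroup.mk'_surjective _)
    (QuotientGroup.ker_mk' _).le hsc hK rfl hl (fun u _ => ?_), hp2, Or.inr (Or.inl ?_)⟩)
  · obtain ⟨A, hA⟩ := sympHom_surjective 2 F u
    exact ⟨A, hA⟩
  · subst hp2
    refine ⟨F, inferInstance, inferInstance, inferInstance, ?_, ⟨MulEquiv.refl _⟩⟩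
    obtain ⟨k, -, hk⟩ := FiniteField.card F 2
    have := hq rfl
    rcases (show (k : ℕ) = 1 ∨ 2 ≤ (k : ℕ) by have := k.pos; omega) with h | h
    · rw [h] at hk; omega
    · rw [hk]; exact Nat.pow_le_pow_right Nat.two_pos h

open Cfsg.Lib.Linear.Herm in
/-- The unitary family. -/
theorem kind_psu {n q : ℕ} (hF : Fintype.card F = q ^ 2) (hn : 3 ≤ n) (h32 : ¬ (n = 3 ∧ q = 2))
    (hK : Cfsg.IsChevSimple p (Cfsg.PSU n F q)) : Kind p (Cfsg.PSU n F q) := by
  classical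
  haveI : Nontrivial (Fin n → F) := Module.nontrivial_of_finrank_pos (R := F) (by rw [finrank_fin_fun]; omega)
  have hc := Cfsg.Lib.Linear.Herm.card_norm_eq hF (neg_ne_zero.2 one_ne_zero) (neg_one_pow_q hF)
  have hq := Cfsg.Lib.Linear.Herm.two_le_q hF
  rw [Nat.card_eq_fintype_card] at hc
  obtain ⟨⟨a, ha⟩, ⟨b, hb⟩, hab⟩ := Fintype.one_lt_card_iff.1 (show 1 < Fintype.card {x : F // x ^ (q + 1) = -1} by omega)
  have hab' : a ≠ b := fun e => hab (Subtype.ext e)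
  have hH := herm_good hF p (by omega : 2 ≤ n) ha hb hab'
  have hR := rich_herm p hF hn
  set P := hermPolar hF n with hP
  have hσσ : ∀ c, P.σ (P.σ c) = c := frob_frob hF
  have hsc : ∀ z ∈ (QuotientGroup.mk' (Subgroup.center ↥(Cfsg.SU n F q))).ker,
      ∃ a : F, ∀ v, (suHom hF n z : (Fin n → F) ≃ₗ[F] (Fin n → F)) v = a • v := fun z hz => by
    rw [QuotientGroup.ker_mk'] at hz
    obtain ⟨c, hc⟩ := Cfsg.Lib.Linear.Herm.exists_scalar hF (show 2 ≤ n by omega) _ fun B hB => by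
      have h := Subgroup.mem_center_iff.1 hz ⟨B, hB⟩
      exact congrArg (fun x : Cfsg.SU n F q => ((x.1 : Matrix.SpecialLinearGroup (Fin n) F) : Matrix (Fin n) (Fin n) F)) h
    exact ⟨c, fun v => by rw [suHom_apply, hc]; simp [Matrix.scalar_apply]⟩
  have hl : Line (P := P) (suHom hF n) := fun e _ he => by
    obtain ⟨c, hc0, hc⟩ : ∃ c : F, c ≠ 0 ∧ c + P.σ c = 0 := exists_trace_zero (frob_ne_id hF) hσσ
    have hee : P.β e e = 0 := P.N_self e he
    have hsym : ∀ x y, P.β x y = P.σ (P.β y x) := fun x y => (P.herm y x).trans (one_mul _)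
    have hiso : ∀ x y, P.β (rootMap P e 0 0 0 c x) (rootMap P e 0 0 0 c y) = P.β x y := fun x y => by
      simp only [rootMap_apply, Polar.add_left, Polar.add_right, Polar.smul_left, Polar.smul_right, map_mul,
        map_zero, P.zero_right, zero_mul, mul_zero, add_zero, hee, zero_smul, P.zero_left]
      rw [hsym e y]
      linear_combination (P.β x e * P.σ (P.β y e)) * hc
    obtain ⟨w, hw⟩ := exists_iso_of_map hR.nondeg _ hiso (fun x => hiso x x)
    obtain ⟨A, rfl⟩ := exists_suHom hF (u := w) (by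
      rw [show ((w : (Fin n → F) ≃ₗ[F] (Fin n → F)) : (Fin n → F) →ₗ[F] (Fin n → F)) = rootMap P e 0 0 0 c from
        LinearMap.ext hw]
      exact det_eq_one p _ (rootMap_cube e 0 0 0 c hee (P.zero_left e)))
    exact ⟨A, c, hc0, fun v => by rw [hw, rootMap_apply]; simp⟩
  by_cases hn3 : n = 3
  · subst hn3
    refine Or.inl ⟨rankOne_polar hH hR (QuotientGroup.mk' _) (QuotientGroup.mk'_surjective _)
      (QuotientGroup.ker_mk' _).le hsc hK (by norm_num) hl (fun u hu => ?_), Or.inr (Or.inl ⟨F, inferInstance,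
      inferInstance, inferInstance, q, hF, fun h => h32 ⟨rfl, h⟩, ⟨MulEquiv.refl _⟩⟩)⟩
    obtain ⟨r, hr⟩ := (hermSetup hF (n := 3) ha hb hab').isPGroup_U p ⟨u, hu⟩
    set d := LinearMap.det (((u : (Fin 3 → F) ≃ₗ[F] (Fin 3 → F))) : (Fin 3 → F) →ₗ[F] (Fin 3 → F)) with hd
    have hdet : d = 1 := by
      have h1 := congrArg (fun z : (hermSetup hF (n := 3) ha hb hab').U =>
        LinearEquiv.det (((z : P.iso) : (Fin 3 → F) ≃ₗ[F] (Fin 3 → F)))) hr
      simp only [SubmonoidClass.coe_pow, OneMemClass.coe_one, map_pow, map_one] at h1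
      have h2 := congrArg Units.val h1
      rw [Units.val_pow_eq_pow_val, LinearEquiv.coe_det, Units.val_one] at h2
      have h3 : (d - 1) ^ p ^ r = 0 := by rw [sub_pow_char_pow, one_pow, hd, h2, sub_self]
      exact sub_eq_zero.1 (eq_zero_of_pow_eq_zero h3)
    obtain ⟨x, hx⟩ := exists_suHom hF hdet
    exact ⟨x, hx⟩
  refine Or.inr (Or.inl (split_polar hH hR (QuotientGroup.mk' _) (QuotientGroup.mk'_surjective _)
    (QuotientGroup.ker_mk' _).le hsc hK (by omega) (Or.inl hl) fun θ => ?_))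
  obtain ⟨g, σ, rfl⟩ := Cfsg.Lib.Linear.AutPSU.exists_decomp hF (p := p) hn h32 θ
  refine ⟨⟨AddMonoidHom.mk' (fun v => g.1.1 *ᵥ (σ ∘ v)) (fun a b => ?_), σ, 1, fun a b h => ?_, fun a v => ?_,
    fun a b => ?_, fun a => ?_⟩, fun x => ?_⟩
  · rw [← Matrix.mulVec_add]; congr 1; funext i; simp
  · exact funext fun i => σ.injective (congrFun (Matrix.mulVec_injective_iff_isUnit.2 g.1.isUnit h) i)
  · show g.1.1 *ᵥ (σ ∘ (a • v)) = σ a • g.1.1 *ᵥ (σ ∘ v)
    rw [← Matrix.mulVec_smul]; congr 1; funext i; simp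
  · show Cfsg.hermForm n F q _ _ = _
    rw [one_mul]
    exact (g.2 _ _).trans (Cfsg.Lib.Linear.AutPSU.herm_comp σ a b)
  · show Cfsg.hermForm n F q _ _ = _
    rw [one_mul]
    exact (g.2 _ _).trans (Cfsg.Lib.Linear.AutPSU.herm_comp σ a a)
  · refine ⟨Cfsg.Lib.Linear.AutPSU.cnj g (Cfsg.Lib.Linear.AutPSU.frobU σ x), rfl, fun v => ?_⟩
    show (g.1.1 * x.1.1.map σ * (g.1⁻¹).1) *ᵥ (g.1.1 *ᵥ (σ ∘ v)) = g.1.1 *ᵥ (σ ∘ (x.1.1 *ᵥ v))
    rw [Matrix.mulVec_mulVec, Matrix.mul_assoc, Units.inv_mul, Matrix.mul_one, ← Matrix.mulVec_mulVec,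
      Cfsg.Lib.Linear.AutPSU.mulVec_comp]

section Orth

open Cfsg.Lib.Linear.Orth

variable {ι : Type} [Fintype ι] [DecidableEq ι] {Q : (ι → F) → F} {B : LinearMap.BilinForm F (ι → F)}

/-- An orthogonal group of Witt index at least three. -/
theorem split_pomega (C : Space Q B) (h7 : 7 ≤ Fintype.card ι)
    (hgood : 9 ≤ Fintype.card ι ∨ ∀ A : Submodule F (ι → F), (∀ v ∈ A, Q v = 0) → finrank F A ≤ 3)
    {m : ℕ} {D : Setup (orthPolar C) m} (hH : Good D p (omegaHom C)) (hm : 3 ≤ m)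
    (hK : Cfsg.IsChevSimple p (Cfsg.POmega F Q)) : Split p (Cfsg.POmega F Q) := by
  classical
  refine split_polar hH (rich_orth C h7) (QuotientGroup.mk' _) (QuotientGroup.mk'_surjective _)
    (QuotientGroup.ker_mk' _).le (fun z hz => ?_) hK (by omega) (Or.inr hm) fun θ => ?_
  · rw [QuotientGroup.ker_mk'] at hz
    rcases omega_center_pm C h7 hz with h | h
    · exact ⟨1, fun v => by rw [omegaHom_apply, orthHom_apply, h]; simp⟩
    · exact ⟨-1, fun v => by rw [omegaHom_apply, orthHom_apply, h]; simp [Matrix.neg_mulVec]⟩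
  obtain ⟨g, σ, hg, rfl⟩ := Cfsg.Lib.Linear.AutPO.exists_decomp C h7 p θ hgood
  obtain ⟨c, hc⟩ := id hg
  refine ⟨⟨AddMonoidHom.mk' (fun v => g.1 *ᵥ (σ ∘ v)) (fun a b => ?_), σ, c, fun a b h => ?_, fun a v => ?_,
    fun a b => ?_, fun a => hc a⟩, fun x => ?_⟩
  · rw [← Matrix.mulVec_add]; congr 1; funext i; simp
  · exact funext fun i => σ.injective (congrFun (Matrix.mulVec_injective_iff_isUnit.2 g.isUnit h) i)
  · show g.1 *ᵥ (σ ∘ (a • v)) = σ a • g.1 *ᵥ (σ ∘ v)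
    rw [← Matrix.mulVec_smul]; congr 1; funext i; simp
  · show B (g.1 *ᵥ (σ ∘ a)) (g.1 *ᵥ (σ ∘ b)) = (c : F) * σ (B a b)
    have e : g.1 *ᵥ (σ ∘ a) + g.1 *ᵥ (σ ∘ b) = g.1 *ᵥ (σ ∘ (a + b)) := by
      rw [← Matrix.mulVec_add]; congr 1; funext i; simp
    rw [← C.polar, ← C.polar, QuadraticMap.polar, QuadraticMap.polar, e]
    show Q (g.1 *ᵥ fun i => σ ((a + b) i)) - Q (g.1 *ᵥ fun i => σ (a i)) - Q (g.1 *ᵥ fun i => σ (b i)) = _
    rw [hc, hc, hc, map_sub, map_sub]; ring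
  · exact ⟨Cfsg.Lib.Linear.AutPO.semiOmega hg x, Cfsg.Lib.Linear.AutPO.semiAut_mk hg x, fun v =>
      Cfsg.Lib.Linear.AutPO.semiGL_act g σ ((x : ↥(Cfsg.isometryGroup F Q)) : GL ι F) v⟩

/-- The odd-dimensional orthogonal family. -/
theorem kind_pomega_odd {m : ℕ} (hm : 3 ≤ m) (hodd : Odd (Fintype.card F))
    (hK : Cfsg.IsChevSimple p (Cfsg.POmega F (Cfsg.quadFormOdd m F))) :
    Kind p (Cfsg.POmega F (Cfsg.quadFormOdd m F)) := by
  have h2 := Cfsg.Lib.Linear.Orth.two_ne_zero_of_odd_card hodd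
  obtain ⟨B, C⟩ := Cfsg.Lib.Linear.Orth.exists_space (Cfsg.Lib.Linear.Orth.isQuad_odd (F := F) m h2)
  exact Or.inr (Or.inl (split_pomega C (by simp; omega) (Cfsg.Lib.Linear.AutPO.good_odd C)
    (odd_good p (by omega) h2 C) hm hK))

/-- Plus type of rank at least five. -/
theorem kind_pomega_plus {m : ℕ} (hm : 5 ≤ m) (hK : Cfsg.IsChevSimple p (Cfsg.POmega F (Cfsg.quadFormPlus m F))) :
    Kind p (Cfsg.POmega F (Cfsg.quadFormPlus m F)) := by
  obtain ⟨B, C⟩ := exists_space_plus (F := F) m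
  exact Or.inr (Or.inl (split_pomega C (by simp; omega) (Or.inl (by simp; omega))
    (plus_good C p (by omega) (Or.inr (by omega))) (by omega) hK))

/-- Minus type. -/
theorem kind_pomega_minus {m : ℕ} (hm : 3 ≤ m) (a b : F)
    (hab : ∀ z₁ z₂ : F, z₁ ^ 2 + a * z₁ * z₂ + b * z₂ ^ 2 = 0 → z₁ = 0 ∧ z₂ = 0)
    (hK : Cfsg.IsChevSimple p (Cfsg.POmega F (Cfsg.quadFormMinus m F a b))) :
    Kind p (Cfsg.POmega F (Cfsg.quadFormMinus m F a b)) := by
  obtain ⟨B, C⟩ := exists_space_minus m a b hab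
  exact Or.inr (Or.inl (split_pomega C (by simp; omega) (Cfsg.Lib.Linear.AutPO.good_minus hab C)
    (minus_good p (Or.inr (by omega)) C hab) hm hK))

end Orth

end Cfsg.Lib.DefChar.PMin
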