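import Cfsg.Agent.Lib.DefChar.PMin.General
import Cfsg.Agent.S2936

/-!
# Overgroups of a Sylow subgroup and stabilisers of subspaces

A proper overgroup has a non-trivial `p`-core, so normalises a non-trivial `p`-subgroup of the linear group above it.
-/

set_option autoImplicit false

namespace Cfsg.Lib.DefChar.PMin

open Subgroup

variable {G K : Type*} [Group G] [Group K] [Finite G] [Finite K] {p : ℕ} [Fact p.Prime]

/-- The `p`-core of a proper overgroup, lifted. -/
theorem exists_normalized (f : G →* K) (hf : Function.Surjective f) (hcen : f.ker ≤ Subgroup.center G)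
    (hK : Cfsg.IsChevSimple p K) {U M : Subgroup K} (hU : ¬ p ∣ U.index) (hUM : U ≤ M) (hM : M ≠ ⊤) :
    ∃ D : Subgroup G, IsPGroup p D ∧ ¬ D ≤ f.ker ∧ M.comap f ≤ normalizer (D : Set G) := by
  have hidx : ¬ p ∣ M.index := fun h => hU (h.trans (Subgroup.index_dvd_of_le hUM))
  set R := (Cfsg.pCore p ↥M).map M.subtype with hR
  have hRne : R ≠ ⊥ := fun h => hM (Cfsg.Agent.S2936.result hK M
    ((Subgroup.map_eq_bot_iff_of_injective _ M.subtype_injective).1 h) hidx)
  have hRp : IsPGroup p R := (Cfsg.Lib.Core.pCore_isPGroup p ↥M).map _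
  have hRn : M ≤ normalizer (R : Set K) := le_trans (by
    rw [Subgroup.normalizer_eq_top, ← MonoidHom.range_eq_map, Subgroup.range_subtype])
    (Subgroup.le_normalizer_map (H := Cfsg.pCore p ↥M) M.subtype)
  set L := R.comap f with hL
  obtain ⟨P⟩ : Nonempty (Sylow p L) := inferInstance
  set D := (P : Subgroup L).map L.subtype with hD
  -- the Sylow subgroup and the kernel give the preimage
  have hsup : L ≤ D ⊔ f.ker := by
    intro x hx
    let g : L →* R := (f.comp L.subtype).codRestrict R fun y => y.2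
    have hg : Function.Surjective g := fun r => by
      obtain ⟨y, hy⟩ := hf r
      exact ⟨⟨y, by show f y ∈ R; rw [hy]; exact r.2⟩, Subtype.ext hy⟩
    have htop : ((P.mapSurjective hg : Sylow p R) : Subgroup R) = ⊤ :=
      ((P.mapSurjective hg).3 (hRp.of_equiv Subgroup.topEquiv.symm) le_top).symm
    have hmem : g ⟨x, hx⟩ ∈ (P : Subgroup L).map g := by
      rw [← Sylow.coe_mapSurjective hg, htop]; exact mem_top _
    obtain ⟨y, hy, e⟩ := hmem
    have e' : f (y : G) = f x := congrArg Subtype.val e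
    rw [show x = (y : G) * ((y : G)⁻¹ * x) by group]
    exact Subgroup.mul_mem_sup ⟨y, hy, rfl⟩ (by rw [MonoidHom.mem_ker, map_mul, map_inv, e', inv_mul_cancel])
  haveI hPn : (P : Subgroup L).Normal := by
    refine ⟨fun z hz w => ?_⟩
    have hw : (w : G) ∈ ((D ⊔ f.ker : Subgroup G) : Set G) := hsup w.2
    rw [Subgroup.mul_normal] at hw
    obtain ⟨_, ⟨d, hd, rfl⟩, c, hc, e⟩ := Set.mem_mul.1 hw
    have : w * z * w⁻¹ = d * z * d⁻¹ := Subtype.ext (by
      simp only [Subgroup.coe_mul, Subgroup.coe_inv, ← e, Subgroup.coe_subtype]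
      rw [_root_.mul_inv_rev, mul_assoc (d : G) c, ← Subgroup.mem_center_iff.1 (hcen hc) (z : G)]
      group)
    rw [this]
    exact mul_mem (mul_mem hd hz) (inv_mem hd)
  refine ⟨D, P.2.map _, fun hle => hRne ?_, fun m hm => ?_⟩
  · refine (Subgroup.eq_bot_iff_forall R).2 fun r hr => ?_
    obtain ⟨y, rfl⟩ := hf r
    exact (sup_le hle le_rfl) (hsup hr)
  · have hmL : ∀ x, x ∈ L ↔ m * x * m⁻¹ ∈ L := fun x => by
      show f x ∈ R ↔ f (m * x * m⁻¹) ∈ R
      rw [map_mul, map_mul, map_inv]
      exact Subgroup.mem_normalizer_iff.1 (hRn hm) (f x)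
    haveI : (P : Subgroup L).Characteristic := P.characteristic_of_normal hPn
    let φ : L ≃* L :=
      { toFun := fun x => ⟨m * x * m⁻¹, (hmL x).1 x.2⟩
        invFun := fun x => ⟨m⁻¹ * x * m, (hmL _).2 (by
          rw [show m * (m⁻¹ * x * m) * m⁻¹ = (x : G) by group]; exact x.2)⟩
        left_inv := fun x => Subtype.ext (by show m⁻¹ * (m * x * m⁻¹) * m = x; group)
        right_inv := fun x => Subtype.ext (by show m * (m⁻¹ * x * m) * m⁻¹ = x; group)
        map_mul' := fun x y => Subtype.ext (by show m * (x * y : G) * m⁻¹ = m * x * m⁻¹ * (m * y * m⁻¹); group) }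
    have hφ := Subgroup.Characteristic.fixed (H := (P : Subgroup L)) inferInstance φ
    refine Subgroup.mem_normalizer_iff.2 fun x => ⟨?_, fun hx => ?_⟩
    · rintro ⟨y, hy, rfl⟩
      exact ⟨φ y, by rw [← hφ] at hy; exact hy, rfl⟩
    · obtain ⟨y, hy, e⟩ := hx
      refine ⟨φ.symm y, ?_, ?_⟩
      · rw [← hφ]
        show φ (φ.symm y) ∈ (P : Subgroup L)
        rw [φ.apply_symm_apply]
        exact hy
      · show m⁻¹ * (y : G) * m = x
        rw [show (y : G) = m * x * m⁻¹ from e]
        group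

/-- A subgroup of the middle of a `p`-group equal to its stabiliser of a configuration is everything. -/
theorem eq_of_normalizer_le {U U₁ : Subgroup K} (hU : IsPGroup p U) (hle : U₁ ≤ U)
    (h : U ⊓ normalizer (U₁ : Set K) ≤ U₁) : U₁ = U := by
  haveI : Group.IsNilpotent ↥U := hU.isNilpotent
  have hnc : NormalizerCondition ↥U := normalizerCondition_of_isNilpotent
  by_contra hne
  have hlt : U₁.subgroupOf U < ⊤ := lt_top_iff_ne_top.2 fun e => hne (le_antisymm hle (Subgroup.subgroupOf_eq_top.1 e))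
  obtain ⟨x, hx, hx1⟩ := SetLike.exists_of_lt (hnc _ hlt)
  refine hx1 (h ⟨x.2, Subgroup.mem_normalizer_iff.2 fun y => ?_⟩)
  constructor
  · intro hy
    exact (Subgroup.mem_normalizer_iff.1 hx ⟨y, hle hy⟩).1 hy
  · intro hy
    have h1 : y ∈ U := by
      have := mul_mem (mul_mem (inv_mem x.2) (hle hy)) x.2
      simpa [mul_assoc] using this
    exact (Subgroup.mem_normalizer_iff.1 hx ⟨y, h1⟩).2 hy

end Cfsg.Lib.DefChar.PMin
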