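import Cfsg.Prelude.Def_AlmostLie
import Cfsg.Prelude.Def_LocalEven
import Mathlib.GroupTheory.Sylow

/-!
# Groups with a unique maximal subgroup over a Sylow subgroup and a normal subgroup of Lie type

Three configurations of the overgroups of a Sylow `p`-subgroup `U` of the normal subgroup: its normaliser is
maximal; two stable proper overgroups generate; two maximal overgroups whose intersection normalises `U`.
-/

set_option autoImplicit false

namespace Cfsg.Lib.DefChar.PMin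

open Subgroup
open scoped Pointwise

variable {p : ℕ} {K : Type*} [Group K]

/-- An automorphism of `p`-power order keeping `U`. -/
def Acts (p : ℕ) (U : Subgroup K) (θ : MulAut K) : Prop :=
  (∃ k : ℕ, θ ^ p ^ k = 1) ∧ U.map θ.toMonoidHom = U

/-- A Sylow subgroup that is not normal. -/
structure Base (p : ℕ) (U : Subgroup K) : Prop where
  pgroup : IsPGroup p U
  index : ¬ p ∣ U.index
  proper : normalizer (U : Set K) ≠ ⊤

/-- The normaliser of a Sylow subgroup is maximal. -/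
def RankOne (p : ℕ) (K : Type*) [Group K] : Prop :=
  ∃ U : Subgroup K, Base p U ∧ ∀ M : Subgroup K, normalizer (U : Set K) ≤ M → M = normalizer (U : Set K) ∨ M = ⊤

/-- Two stable proper overgroups generate. -/
def Split (p : ℕ) (K : Type*) [Group K] : Prop :=
  ∃ U A B : Subgroup K, Base p U ∧ U ≤ A ∧ U ≤ B ∧ A ≠ ⊤ ∧ B ≠ ⊤ ∧ A ⊔ B = ⊤ ∧
    ∀ θ : MulAut K, Acts p U θ → A.map θ.toMonoidHom = A ∧ B.map θ.toMonoidHom = B

/-- Two maximal overgroups meeting in the normaliser. -/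
def Pair (p : ℕ) (K : Type*) [Group K] : Prop :=
  ∃ U A B : Subgroup K, Base p U ∧ U ≤ A ∧ U ≤ B ∧ A ≠ ⊤ ∧ B ≠ ⊤ ∧ A ⊔ B = ⊤ ∧ A ⊓ B ≤ normalizer (U : Set K) ∧
    ∀ M : Subgroup K, U ≤ M → M ≠ ⊤ → M ≤ A ∨ M ≤ B

theorem Acts.inv {U : Subgroup K} {θ : MulAut K} (h : Acts p U θ) : Acts p U θ⁻¹ := by
  obtain ⟨⟨k, hk⟩, hU⟩ := h
  refine ⟨⟨k, by rw [inv_pow, hk, inv_one]⟩, ?_⟩
  conv_lhs => rw [← hU]
  rw [Subgroup.map_map]
  convert Subgroup.map_id U using 2
  ext x
  simp

/-- An automorphism of odd `p`-power order keeps both members of a pair. -/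
theorem Pair.map_cases [Finite K] {U A B : Subgroup K} (hA : U ≤ A) (hB : U ≤ B) (hAt : A ≠ ⊤) (hBt : B ≠ ⊤)
    (hAB : A ⊔ B = ⊤) (hover : ∀ M : Subgroup K, U ≤ M → M ≠ ⊤ → M ≤ A ∨ M ≤ B) {θ : MulAut K} (hθ : Acts p U θ) :
    (A.map θ.toMonoidHom = A ∧ B.map θ.toMonoidHom = B) ∨ (A.map θ.toMonoidHom = B ∧ B.map θ.toMonoidHom = A) := by
  have hproper : ∀ H : Subgroup K, H ≠ ⊤ → H.map θ.toMonoidHom ≠ ⊤ := fun H hH e => hH (by
    rw [← Subgroup.map_top_of_surjective θ.toMonoidHom θ.surjective] at e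
    exact Subgroup.map_injective θ.injective e)
  have hle : ∀ H : Subgroup K, U ≤ H → U ≤ H.map θ.toMonoidHom := fun H h => hθ.2.symm.le.trans (Subgroup.map_mono h)
  have hcard : ∀ H : Subgroup K, Nat.card (H.map θ.toMonoidHom) = Nat.card H := fun H =>
    (Nat.card_congr (H.equivMapOfInjective _ θ.injective).toEquiv).symm
  have hA' := hover _ (hle A hA) (hproper A hAt)
  have hB' := hover _ (hle B hB) (hproper B hBt)
  have hnot : ∀ C : Subgroup K, C ≠ ⊤ → A.map θ.toMonoidHom ≤ C → B.map θ.toMonoidHom ≤ C → False := fun C hC h1 h2 =>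
    hC (top_le_iff.1 (by
      rw [← Subgroup.map_top_of_surjective θ.toMonoidHom θ.surjective, ← hAB, Subgroup.map_sup]
      exact sup_le h1 h2))
  rcases hA' with h1 | h1 <;> rcases hB' with h2 | h2
  · exact (hnot A hAt h1 h2).elim
  · exact Or.inl ⟨Subgroup.eq_of_le_of_card_ge h1 (hcard A).ge, Subgroup.eq_of_le_of_card_ge h2 (hcard B).ge⟩
  · have c1 := Subgroup.card_le_of_le h1
    have c2 := Subgroup.card_le_of_le h2
    rw [hcard] at c1 c2
    exact Or.inr ⟨Subgroup.eq_of_le_of_card_ge h1 (by rw [hcard]; exact c2),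
      Subgroup.eq_of_le_of_card_ge h2 (by rw [hcard]; exact c1)⟩
  · exact (hnot B hBt h1 h2).elim

/-- For odd `p` a pair is stable. -/
theorem Pair.split [Finite K] [Fact p.Prime] (hp : p ≠ 2) (h : Pair p K) : Split p K := by
  obtain ⟨U, A, B, hU, hA, hB, hAt, hBt, hAB, -, hover⟩ := h
  refine ⟨U, A, B, hU, hA, hB, hAt, hBt, hAB, fun θ hθ => ?_⟩
  rcases Pair.map_cases hA hB hAt hBt hAB hover hθ with h1 | ⟨h1, h2⟩
  · exact h1
  exfalso
  obtain ⟨k, hk⟩ := hθ.1
  have key : ∀ n : ℕ, A.map (θ ^ (2 * n + 1)).toMonoidHom = B := by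
    intro n
    induction n with
    | zero => rw [mul_zero, zero_add, pow_one]; exact h1
    | succ n ih =>
      rw [show 2 * (n + 1) + 1 = 1 + 1 + (2 * n + 1) by ring, pow_add, pow_add, pow_one]
      show A.map ((θ.toMonoidHom.comp θ.toMonoidHom).comp (θ ^ (2 * n + 1)).toMonoidHom) = B
      rw [← Subgroup.map_map, ih, ← Subgroup.map_map, h2, h1]
  obtain ⟨n, hn⟩ := ((Fact.out : p.Prime).odd_of_ne_two hp).pow (n := k)
  have e := key n
  rw [← hn, hk] at e
  have hAB' : A = B := by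
    rw [← e]
    exact (Subgroup.map_id A).symm
  exact hAt (by rw [← hAB, ← hAB', sup_idem])

section Transfer

variable {L : Type*} [Group L]

theorem Base.map (e : K ≃* L) {U : Subgroup K} (h : Base p U) : Base p (U.map e.toMonoidHom) := by
  refine ⟨h.pgroup.map _, ?_, ?_⟩
  · rw [show U.map e.toMonoidHom = U.map (e : K →* L) from rfl, Subgroup.index_map_equiv]; exact h.index
  · rw [← Subgroup.map_equiv_normalizer_eq]
    intro ht
    apply h.proper
    rw [← Subgroup.map_top_of_surjective e.toMonoidHom e.surjective] at ht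
    exact Subgroup.map_injective e.injective ht

theorem map_ne_top (e : K ≃* L) {A : Subgroup K} (h : A ≠ ⊤) : A.map e.toMonoidHom ≠ ⊤ := fun ht => h (by
  rw [← Subgroup.map_top_of_surjective e.toMonoidHom e.surjective] at ht
  exact Subgroup.map_injective e.injective ht)

theorem exists_map (e : K ≃* L) (M : Subgroup L) : ∃ M' : Subgroup K, M = M'.map e.toMonoidHom :=
  ⟨M.comap e.toMonoidHom, (Subgroup.map_comap_eq_self_of_surjective e.surjective M).symm⟩

theorem RankOne.of_equiv (e : K ≃* L) (h : RankOne p K) : RankOne p L := by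
  obtain ⟨U, hU, hmax⟩ := h
  refine ⟨_, hU.map e, fun M hM => ?_⟩
  obtain ⟨M', rfl⟩ := exists_map e M
  rw [← Subgroup.map_equiv_normalizer_eq] at hM ⊢
  rcases hmax M' ((Subgroup.map_le_map_iff_of_injective e.injective).1 hM) with h1 | h1
  · exact Or.inl (by rw [h1])
  · exact Or.inr (by rw [h1, Subgroup.map_top_of_surjective _ e.surjective])

theorem Split.of_equiv (e : K ≃* L) (h : Split p K) : Split p L := by
  obtain ⟨U, A, B, hU, hA, hB, hAt, hBt, hAB, hst⟩ := h
  refine ⟨_, A.map e.toMonoidHom, B.map e.toMonoidHom, hU.map e, Subgroup.map_mono hA, Subgroup.map_mono hB,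
    map_ne_top e hAt, map_ne_top e hBt, by rw [← Subgroup.map_sup, hAB, Subgroup.map_top_of_surjective _ e.surjective],
    fun θ hθ => ?_⟩
  set θ' : MulAut K := (MulAut.congr e).symm θ with hθ'
  have hcomm : ∀ H : Subgroup K, (H.map e.toMonoidHom).map θ.toMonoidHom = (H.map θ'.toMonoidHom).map e.toMonoidHom := by
    intro H
    rw [Subgroup.map_map, Subgroup.map_map]
    congr 1
    ext x
    simp [hθ', MulAut.congr_symm_apply]
  obtain ⟨h1, h2⟩ := hst θ' ⟨by
    obtain ⟨k, hk⟩ := hθ.1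
    exact ⟨k, by rw [hθ', ← map_pow, hk, map_one]⟩, Subgroup.map_injective e.injective ((hcomm U).symm.trans hθ.2)⟩
  exact ⟨by rw [hcomm, h1], by rw [hcomm, h2]⟩

theorem Pair.of_equiv (e : K ≃* L) (h : Pair p K) : Pair p L := by
  obtain ⟨U, A, B, hU, hA, hB, hAt, hBt, hAB, hint, hover⟩ := h
  refine ⟨_, A.map e.toMonoidHom, B.map e.toMonoidHom, hU.map e, Subgroup.map_mono hA, Subgroup.map_mono hB,
    map_ne_top e hAt, map_ne_top e hBt, by rw [← Subgroup.map_sup, hAB, Subgroup.map_top_of_surjective _ e.surjective],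
    ?_, fun M hUM hM => ?_⟩
  · rw [← Subgroup.map_inf _ _ _ e.injective, ← Subgroup.map_equiv_normalizer_eq]
    exact Subgroup.map_mono hint
  · obtain ⟨M', rfl⟩ := exists_map e M
    rcases hover M' ((Subgroup.map_le_map_iff_of_injective e.injective).1 hUM)
      (fun h1 => hM (by rw [h1, Subgroup.map_top_of_surjective _ e.surjective])) with h1 | h1
    · exact Or.inl (Subgroup.map_mono h1)
    · exact Or.inr (Subgroup.map_mono h1)

end Transfer

/-- The exceptional groups with interchanged maximal overgroups. -/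
def Listed (K : Type*) [Group K] : Prop :=
  (∃ (F : Type) (_ : Field F) (_ : Fintype F) (_ : CharP F 2),
      Nonempty (K ≃* Matrix.ProjectiveSpecialLinearGroup (Fin 3) F)) ∨
    (∃ (F : Type) (_ : Field F) (_ : Fintype F) (_ : CharP F 2), 4 ≤ Fintype.card F ∧ Nonempty (K ≃* Cfsg.PSp 2 F)) ∨
    Nonempty (K ≃* ↥(alternatingGroup (Fin 6)))

/-- What a family supplies. -/
def Kind (p : ℕ) (K : Type*) [Group K] : Prop :=
  (RankOne p K ∧ Cfsg.IsLieRankOneChar p K) ∨ Split p K ∨ (Pair p K ∧ p = 2 ∧ Listed K)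

section Ambient

variable {X : Type*} [Group X] [Finite X] [Fact p.Prime] {N : Subgroup X} [N.Normal]

/-- Conjugation by an element of a `p`-subgroup acts as a `p`-automorphism. -/
theorem acts_conjNormal {U : Subgroup N} {S : Subgroup X} (hS : IsPGroup p S)
    (hSU : S ≤ normalizer ((U.map N.subtype : Subgroup X) : Set X)) {s : X} (hs : s ∈ S) :
    Acts p U (MulAut.conjNormal s) := by
  refine ⟨?_, ?_⟩
  · obtain ⟨k, hk⟩ := hS ⟨s, hs⟩
    exact ⟨k, by rw [← map_pow, show s ^ p ^ k = 1 from congrArg Subtype.val hk, map_one]⟩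
  · apply le_antisymm
    · rintro _ ⟨u, hu, rfl⟩
      obtain ⟨v, hv, e⟩ := (mem_normalizer_iff.1 (hSU hs) u.1).1 ⟨u, hu, rfl⟩
      rwa [show (MulAut.conjNormal s : MulAut N).toMonoidHom u = v from Subtype.ext e.symm]
    · intro u hu
      obtain ⟨v, hv, e⟩ := (mem_normalizer_iff.1 (inv_mem (hSU hs)) u.1).1 ⟨u, hu, rfl⟩
      refine ⟨v, hv, Subtype.ext ?_⟩
      show s * (v : X) * s⁻¹ = u
      rw [show (v : X) = s⁻¹ * u * s⁻¹⁻¹ from e]
      group

/-- **The dichotomy.** -/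
theorem dichotomy (hX : Cfsg.IsPMinimal p X) (hN : Kind p ↥N) (U : Sylow p ↥N) :
    IsCoatom (normalizer (((U : Subgroup ↥N).map N.subtype : Subgroup X) : Set X)) ∧
      (Cfsg.IsLieRankOneChar p ↥N ∨ (p = 2 ∧ N ≠ ⊤ ∧ Listed ↥N)) := by
  classical
  -- it suffices to treat one Sylow subgroup
  suffices key : ∀ U₀ : Subgroup ↥N, Base p U₀ → (∀ M : Subgroup X, ∀ S : Sylow p X, IsCoatom M →
      (S : Subgroup X) ≤ M → normalizer ((U₀.map N.subtype : Subgroup X) : Set X) ≤ M →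
      (S : Subgroup X) ≤ normalizer ((U₀.map N.subtype : Subgroup X) : Set X) → U₀.map N.subtype = (S : Subgroup X) ⊓ N →
      (∀ A : Subgroup ↥N, U₀ ≤ A → A ≠ ⊤ → (∀ s ∈ (S : Subgroup X), A.map (MulAut.conjNormal s : MulAut N).toMonoidHom = A) →
        A ≤ M.subgroupOf N) → M.subgroupOf N ≠ ⊤ →
      M.subgroupOf N ≤ normalizer (U₀ : Set N) ∧ (Cfsg.IsLieRankOneChar p ↥N ∨ (p = 2 ∧ N ≠ ⊤ ∧ Listed ↥N))) →
      IsCoatom (normalizer (((U : Subgroup ↥N).map N.subtype : Subgroup X) : Set X)) ∧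
        (Cfsg.IsLieRankOneChar p ↥N ∨ (p = 2 ∧ N ≠ ⊤ ∧ Listed ↥N)) by
    rcases hN with ⟨⟨U₀, hU₀, hmax⟩, hone⟩ | ⟨U₀, A, B, hU₀, hA, hB, hAt, hBt, hAB, hst⟩ | ⟨⟨U₀, A, B, hU₀, hA, hB, hAt, hBt, hAB, hint, hover⟩, hp2, hlist⟩
    · refine key U₀ hU₀ fun M S hM hSM hNM hSn hSN hstab hproper => ⟨?_, Or.inl hone⟩
      have hle : normalizer (U₀ : Set N) ≤ M.subgroupOf N := fun g hg => hNM (by
        refine mem_normalizer_iff.2 fun x => ?_
        constructor
        · rintro ⟨u, hu, rfl⟩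
          exact ⟨g * u * g⁻¹, (mem_normalizer_iff.1 hg u).1 hu, rfl⟩
        · rintro ⟨u, hu, e⟩
          refine ⟨g⁻¹ * u * g⁻¹⁻¹, (mem_normalizer_iff.1 (inv_mem hg) u).1 hu, ?_⟩
          simp only [Subgroup.coe_subtype, Subgroup.coe_mul, Subgroup.coe_inv] at e ⊢
          rw [e]; group)
      exact ((hmax _ hle).resolve_right hproper).le
    · refine key U₀ hU₀ fun M S hM hSM hNM hSn hSN hstab hproper => ?_
      refine (hproper (top_le_iff.1 (hAB.symm.le.trans (sup_le ?_ ?_)))).elim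
      · exact hstab A hA hAt fun s hs => (hst _ (acts_conjNormal S.2 hSn hs)).1
      · exact hstab B hB hBt fun s hs => (hst _ (acts_conjNormal S.2 hSn hs)).2
    · refine key U₀ hU₀ fun M S hM hSM hNM hSn hSN hstab hproper => ?_
      have hcase : ∀ s ∈ (S : Subgroup X), _ := fun s hs =>
        Pair.map_cases hA hB hAt hBt hAB hover (acts_conjNormal (U := U₀) S.2 hSn hs)
      by_cases hfix : ∀ s ∈ (S : Subgroup X), A.map (MulAut.conjNormal s : MulAut N).toMonoidHom = A
      · refine (hproper (top_le_iff.1 (hAB.symm.le.trans (sup_le (hstab A hA hAt hfix) (hstab B hB hBt fun s hs => ?_))))).elim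
        rcases hcase s hs with h | ⟨h, -⟩
        · exact h.2
        · exact (hBt (by rw [← hAB, ← (hfix s hs), h, sup_idem])).elim
      push Not at hfix
      obtain ⟨s, hs, hsA⟩ := hfix
      obtain ⟨hsA, hsB⟩ := (hcase s hs).resolve_left fun h => hsA h.1
      refine ⟨le_trans ?_ hint, Or.inr ⟨hp2, fun htop => ?_, hlist⟩⟩
      · have hinv : (M.subgroupOf N).map (MulAut.conjNormal s : MulAut N).toMonoidHom = M.subgroupOf N := by
          refine Subgroup.eq_of_le_of_card_ge ?_ (Nat.card_congr ((M.subgroupOf N).equivMapOfInjective _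
            (MulAut.conjNormal s : MulAut N).injective).toEquiv).le
          rintro _ ⟨g, hg, rfl⟩
          show s * (g : X) * s⁻¹ ∈ M
          exact mul_mem (mul_mem (hSM hs) hg) (inv_mem (hSM hs))
        have hU₀M : U₀ ≤ M.subgroupOf N := fun u hu => hNM (Subgroup.le_normalizer ⟨u, hu, rfl⟩)
        rcases hover _ hU₀M hproper with h | h
        · exact le_inf h (by rw [← hinv, ← hsA]; exact Subgroup.map_mono h)
        · exact le_inf (by rw [← hinv, ← hsB]; exact Subgroup.map_mono h) h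
      · have hsN : s ∈ N := htop ▸ Subgroup.mem_top s
        have hsU : (⟨s, hsN⟩ : N) ∈ A := hA (by
          have : s ∈ U₀.map N.subtype := hSN ▸ ⟨hs, hsN⟩
          obtain ⟨u, hu, e⟩ := this
          rwa [show (⟨s, hsN⟩ : N) = u from Subtype.ext e.symm])
        refine hAt ?_
        have : A.map (MulAut.conjNormal s : MulAut N).toMonoidHom = A := by
          refine Subgroup.eq_of_le_of_card_ge ?_ (Nat.card_congr (A.equivMapOfInjective _
            (MulAut.conjNormal s : MulAut N).injective).toEquiv).le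
          rintro _ ⟨a, ha, rfl⟩
          rw [show (MulAut.conjNormal s : MulAut N).toMonoidHom a = ⟨s, hsN⟩ * a * ⟨s, hsN⟩⁻¹ from Subtype.ext rfl]
          exact mul_mem (mul_mem hsU ha) (inv_mem hsU)
        rw [← hAB, ← this, hsA, sup_idem]
  intro U₀ hU₀ hloc
  set U₁ : Subgroup X := U₀.map N.subtype with hU₁
  obtain ⟨S, hS⟩ := (hU₀.pgroup.map N.subtype).exists_le_sylow
  have hSN : U₁ = (S : Subgroup X) ⊓ N := by
    refine le_antisymm (le_inf hS (map_subtype_le _)) ?_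
    set T := ((S : Subgroup X) ⊓ N).subgroupOf N with hT
    have hTp : IsPGroup p T := (S.2.to_le inf_le_left).of_equiv (Subgroup.subgroupOfEquivOfLe inf_le_right).symm
    have hle : U₀ ≤ T := fun u hu => ⟨hS ⟨u, hu, rfl⟩, u.2⟩
    have hUT : (hU₀.pgroup.toSylow hU₀.index : Subgroup N) = T :=
      ((hU₀.pgroup.toSylow hU₀.index).3 hTp hle).symm
    intro x hx
    refine ⟨⟨x, hx.2⟩, ?_, rfl⟩
    rw [show U₀ = T from hUT]
    exact hx
  have hSnorm : (S : Subgroup X) ≤ normalizer (U₁ : Set X) := by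
    intro s hs
    have key : ∀ t ∈ (S : Subgroup X), ∀ x ∈ U₁, t * x * t⁻¹ ∈ U₁ := fun t ht x hx => by
      rw [hSN, Subgroup.mem_inf] at hx ⊢
      exact ⟨Subgroup.mul_mem _ (Subgroup.mul_mem _ ht hx.1) (Subgroup.inv_mem _ ht),
        (inferInstance : N.Normal).conj_mem x hx.2 t⟩
    refine mem_normalizer_iff.2 fun x => ⟨key s hs x, fun hx => ?_⟩
    have := key s⁻¹ (inv_mem hs) _ hx
    simpa [mul_assoc] using this
  have hnormN : ∀ g : N, (g : X) ∈ normalizer (U₁ : Set X) → g ∈ normalizer (U₀ : Set N) := fun g hg =>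
    mem_normalizer_iff.2 fun x => by
      rw [← Subgroup.mem_map_iff_mem N.subtype_injective (K := U₀), mem_normalizer_iff.1 hg,
        ← Subgroup.mem_map_iff_mem N.subtype_injective (K := U₀)]
      rfl
  have hNproper : normalizer (U₁ : Set X) ≠ ⊤ := fun h => hU₀.proper (eq_top_iff.2 fun g _ => hnormN g (h ▸ mem_top _))
  obtain ⟨-, M, ⟨hM, hSM⟩, huniq⟩ := hX S
  have habove : ∀ H : Subgroup X, (S : Subgroup X) ≤ H → H ≠ ⊤ → H ≤ M := by
    intro H hSH hH
    obtain ⟨M', hM', hle⟩ := (eq_top_or_exists_le_coatom H).resolve_left hH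
    exact huniq M' ⟨hM', hSH.trans hle⟩ ▸ hle
  have hNM : normalizer (U₁ : Set X) ≤ M := habove _ hSnorm hNproper
  have hfr : normalizer (U₁ : Set X) ⊔ N = ⊤ := Sylow.normalizer_sup_eq_top (hU₀.pgroup.toSylow hU₀.index)
  have hproper : M.subgroupOf N ≠ ⊤ := fun h => hM.1 (top_le_iff.1 (hfr.symm.le.trans (sup_le hNM
    (Subgroup.subgroupOf_eq_top.1 h))))
  have hstab : ∀ A : Subgroup ↥N, U₀ ≤ A → A ≠ ⊤ →
      (∀ s ∈ (S : Subgroup X), A.map (MulAut.conjNormal s : MulAut N).toMonoidHom = A) → A ≤ M.subgroupOf N := by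
    intro A hA hAt hst
    have hn : (S : Subgroup X) ≤ normalizer ((A.map N.subtype : Subgroup X) : Set X) := by
      intro s hs
      have key : ∀ t ∈ (S : Subgroup X), ∀ x ∈ A.map N.subtype, t * x * t⁻¹ ∈ A.map N.subtype := by
        rintro t ht _ ⟨a, ha, rfl⟩
        refine ⟨(MulAut.conjNormal t : MulAut N) a, ?_, rfl⟩
        exact (hst t ht).le (Subgroup.mem_map_of_mem _ ha)
      refine mem_normalizer_iff.2 fun x => ⟨key s hs x, fun hx => ?_⟩
      have := key s⁻¹ (inv_mem hs) _ hx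
      simpa [mul_assoc] using this
    have hne : A.map N.subtype ⊔ (S : Subgroup X) ≠ ⊤ := fun h => hAt (eq_top_iff.2 fun g _ => by
      have hg : (g : X) ∈ ((A.map N.subtype ⊔ (S : Subgroup X) : Subgroup X) : Set X) := by rw [h]; trivial
      rw [Subgroup.coe_mul_of_right_le_normalizer_left _ _ hn] at hg
      obtain ⟨_, ⟨a, ha, rfl⟩, t, ht, e⟩ := Set.mem_mul.1 hg
      have htN : t ∈ N := by
        have : t = (a : X)⁻¹ * g := eq_inv_mul_of_mul_eq e
        rw [this]
        exact mul_mem (inv_mem a.2) g.2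
      obtain ⟨u, hu, eu⟩ : t ∈ U₁ := hSN ▸ ⟨ht, htN⟩
      rw [show g = a * u from Subtype.ext (by rw [← e, ← eu]; rfl)]
      exact mul_mem ha (hA hu))
    intro a ha
    exact (le_sup_left.trans (habove _ le_sup_right hne)) ⟨a, ha, rfl⟩
  obtain ⟨hle, hrest⟩ := hloc M S hM hSM hNM hSnorm hSN hstab hproper
  have hMeq : M = normalizer (U₁ : Set X) := by
    refine le_antisymm (fun m hm => ?_) hNM
    have hm' : m ∈ ((normalizer (U₁ : Set X) ⊔ N : Subgroup X) : Set X) := by rw [hfr]; trivial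
    rw [Subgroup.mul_normal] at hm'
    obtain ⟨n, hn, k, hk, rfl⟩ := Set.mem_mul.1 hm'
    have hkM : (⟨k, hk⟩ : N) ∈ M.subgroupOf N := by
      have := mul_mem (inv_mem (hNM hn)) hm
      rwa [inv_mul_cancel_left] at this
    refine mul_mem hn (mem_normalizer_iff.2 fun x => ?_)
    have h1 := hle hkM
    constructor
    · rintro ⟨u, hu, rfl⟩
      exact ⟨⟨k, hk⟩ * u * ⟨k, hk⟩⁻¹, (mem_normalizer_iff.1 h1 u).1 hu, rfl⟩
    · rintro ⟨u, hu, e⟩
      refine ⟨⟨k, hk⟩⁻¹ * u * ⟨k, hk⟩⁻¹⁻¹, (mem_normalizer_iff.1 (inv_mem h1) u).1 hu, ?_⟩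
      simp only [Subgroup.coe_subtype, Subgroup.coe_mul, Subgroup.coe_inv] at e ⊢
      rw [e]; group
  refine ⟨?_, hrest⟩
  -- transfer to the given Sylow subgroup
  obtain ⟨g, hg⟩ := MulAction.exists_smul_eq ↥N (hU₀.pgroup.toSylow hU₀.index) U
  have e : (U : Subgroup ↥N).map N.subtype = U₁.map (MulAut.conj (g : X)).toMonoidHom := by
    ext x
    constructor
    · rintro ⟨u, hu, rfl⟩
      rw [← hg, SetLike.mem_coe, Sylow.coe_subgroup_smul, Subgroup.pointwise_smul_def] at hu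
      obtain ⟨v, hv, rfl⟩ := hu
      exact ⟨v.1, ⟨v, hv, rfl⟩, rfl⟩
    · rintro ⟨_, ⟨v, hv, rfl⟩, rfl⟩
      refine ⟨g * v * g⁻¹, ?_, rfl⟩
      rw [← hg, SetLike.mem_coe, Sylow.coe_subgroup_smul, Subgroup.pointwise_smul_def]
      exact ⟨v, hv, rfl⟩
  rw [e, ← Subgroup.map_equiv_normalizer_eq, ← hMeq]
  exact (OrderIso.isCoatom_iff (MulAut.conj (g : X)).mapSubgroup M).2 hM

end Ambient

end Cfsg.Lib.DefChar.PMin
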