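import Cfsg.Agent.Lib.DefChar.PMin.Flag
import Cfsg.Agent.Lib.DefChar.InnerFix.PSL
import Cfsg.Agent.Lib.Linear.SLBlocks.Radical

/-!
# The special linear groups: overgroups of the unitriangular group and their symmetries

A proper overgroup fixes a member of the standard flag; an automorphism keeping the Sylow subgroup keeps each
dimension of the flag or sends it to the complementary one.
-/

set_option autoImplicit false
set_option linter.unusedSectionVars false
set_option maxHeartbeats 1600000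

namespace Cfsg.Lib.DefChar.PMin

open Matrix Cfsg.Lib.Linear.AutPSL Cfsg.Lib.Linear.SLBlocks
open scoped MatrixGroups

section SL

variable {n : ℕ} {F : Type} [Field F] [Fintype F]

local notation "PSLn" => Matrix.ProjectiveSpecialLinearGroup (Fin n) F
local notation "SLn" => Matrix.SpecialLinearGroup (Fin n) F
local notation "π₀" => (QuotientGroup.mk' (Subgroup.center SLn) : SLn →* PSLn)

theorem coe_inv_cancel (a : SLn) (v : Fin n → F) :
    (a : Matrix (Fin n) (Fin n) F) *ᵥ ((a⁻¹ : SLn) *ᵥ v) = v := by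
  rw [Matrix.mulVec_mulVec, ← Matrix.SpecialLinearGroup.coe_mul, mul_inv_cancel, Matrix.SpecialLinearGroup.coe_one,
    Matrix.one_mulVec]

/-- The stabiliser of a subspace. -/
def stW (W : Submodule F (Fin n → F)) : Subgroup SLn where
  carrier := {g | ∀ v, v ∈ W ↔ (g : Matrix (Fin n) (Fin n) F) *ᵥ v ∈ W}
  one_mem' := fun v => by simp
  mul_mem' := fun {a b} ha hb v => by
    rw [Matrix.SpecialLinearGroup.coe_mul, ← Matrix.mulVec_mulVec, ← ha]; exact hb v
  inv_mem' := fun {a} ha v => by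
    have := ha ((a⁻¹ : SLn) *ᵥ v)
    rw [coe_inv_cancel] at this
    exact this.symm

theorem mem_stW {W : Submodule F (Fin n → F)} {g : SLn}
    (h : ∀ v ∈ W, (g : Matrix (Fin n) (Fin n) F) *ᵥ v ∈ W) : g ∈ stW W := by
  intro v
  refine ⟨h v, fun hv => ?_⟩
  let T : ↥W → ↥W := fun w => ⟨_, h w w.2⟩
  have hinj : Function.Injective (fun v : Fin n → F => (g : Matrix (Fin n) (Fin n) F) *ᵥ v) := fun a b e => by
    have e' := congrArg (fun z => ((g⁻¹ : SLn) : Matrix (Fin n) (Fin n) F) *ᵥ z) e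
    simp only [Matrix.mulVec_mulVec, ← Matrix.SpecialLinearGroup.coe_mul, inv_mul_cancel,
      Matrix.SpecialLinearGroup.coe_one, Matrix.one_mulVec] at e'
    exact e'
  obtain ⟨w, hw⟩ := (Finite.injective_iff_surjective (f := T)).1
    (fun a b e => Subtype.ext (hinj (congrArg Subtype.val e))) ⟨_, hv⟩
  rw [← hinj (congrArg Subtype.val hw)]
  exact w.2

theorem center_le_stW (W : Submodule F (Fin n → F)) : Subgroup.center SLn ≤ stW W := by
  intro z hz
  refine mem_stW fun v hv => ?_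
  obtain ⟨r, -, hr⟩ := Matrix.SpecialLinearGroup.mem_center_iff.1 hz
  rw [← hr, show Matrix.scalar (Fin n) r *ᵥ v = r • v by funext i; simp [Matrix.scalar_apply, Matrix.mulVec_diagonal]]
  exact W.smul_mem r hv

/-- The stabiliser in the simple group. -/
def stK (W : Submodule F (Fin n → F)) : Subgroup PSLn := (stW W).map π₀

theorem mem_stK {W : Submodule F (Fin n → F)} {g : SLn} : π₀ g ∈ stK W ↔ g ∈ stW W := by
  constructor
  · rintro ⟨h, hh, e⟩
    have : h⁻¹ * g ∈ Subgroup.center SLn := QuotientGroup.eq.1 e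
    simpa using mul_mem hh (center_le_stW W this)
  · exact fun h => ⟨g, h, rfl⟩

/-- The standard flag. -/
def Ek (k : ℕ) : Submodule F (Fin n → F) where
  carrier := {v | ∀ i : Fin n, k ≤ (i : ℕ) → v i = 0}
  add_mem' := fun {a b} ha hb i hi => by simp [ha i hi, hb i hi]
  zero_mem' := fun _ _ => rfl
  smul_mem' := fun c v hv i hi => by simp [hv i hi]

/-- The complementary coordinate subspace. -/
def Lk (k : ℕ) : Submodule F (Fin n → F) where
  carrier := {v | ∀ i : Fin n, (i : ℕ) < k → v i = 0}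
  add_mem' := fun {a b} ha hb i hi => by simp [ha i hi, hb i hi]
  zero_mem' := fun _ _ => rfl
  smul_mem' := fun c v hv i hi => by simp [hv i hi]

theorem mem_Ek {k : ℕ} {v : Fin n → F} : v ∈ (Ek k : Submodule F (Fin n → F)) ↔ ∀ i : Fin n, k ≤ (i : ℕ) → v i = 0 :=
  Iff.rfl

theorem card_Ek {k : ℕ} (hk : k ≤ n) : Nat.card (Ek k : Submodule F (Fin n → F)) = Fintype.card F ^ k := by
  let e : (Ek k : Submodule F (Fin n → F)) ≃ (Fin k → F) :=
    { toFun := fun v i => v.1 ⟨i, by omega⟩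
      invFun := fun w => ⟨fun i => if h : (i : ℕ) < k then w ⟨i, h⟩ else 0, fun i hi => dif_neg (by omega)⟩
      left_inv := fun v => Subtype.ext (funext fun i => by
        by_cases h : (i : ℕ) < k
        · simp [h]
        · simp [h, v.2 i (by omega)])
      right_inv := fun w => funext fun i => by simp [i.2] }
  rw [Nat.card_congr e, Nat.card_eq_fintype_card, Fintype.card_fun, Fintype.card_fin]

theorem card_Lk {k : ℕ} (hk : k ≤ n) : Nat.card (Lk k : Submodule F (Fin n → F)) = Fintype.card F ^ (n - k) := by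
  let e : (Lk k : Submodule F (Fin n → F)) ≃ (Fin (n - k) → F) :=
    { toFun := fun v i => v.1 ⟨k + i, by omega⟩
      invFun := fun w => ⟨fun i => if h : k ≤ (i : ℕ) then w ⟨i - k, by omega⟩ else 0, fun i hi => dif_neg (by omega)⟩
      left_inv := fun v => Subtype.ext (funext fun i => by
        by_cases h : k ≤ (i : ℕ)
        · simp only [h, ↓reduceDIte]; exact congrArg v.1 (Fin.ext (by simp; omega))
        · simp [h, v.2 i (by omega)])
      right_inv := fun w => funext fun i => by simp }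
  rw [Nat.card_congr e, Nat.card_eq_fintype_card, Fintype.card_fun, Fintype.card_fin]

/-- An upper root element. -/
def rt {i j : Fin n} (h : i < j) (c : F) : SLn := SpecialLinearGroup.transvection h.ne c

theorem transvection_mulVec {i j : Fin n} (h : i ≠ j) (c : F) (v : Fin n → F) :
    (SpecialLinearGroup.transvection h c : Matrix (Fin n) (Fin n) F) *ᵥ v = v + (c * v j) • Pi.single i 1 := by
  rw [coe_transvection, Matrix.add_mulVec, Matrix.one_mulVec]
  congr 1
  funext a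
  by_cases ha : a = i
  · subst ha; simp [Matrix.mulVec, dotProduct, Matrix.single_apply]
  · simp [Matrix.mulVec, dotProduct, Matrix.single_apply, Ne.symm ha, ha]

/-- An invariant subspace of the upper root elements belongs to the flag. -/
theorem eq_Ek_of_invariant {W : Submodule F (Fin n → F)}
    (hW : ∀ (i j : Fin n) (h : i < j) (c : F), rt h c ∈ stW W) : ∃ k ≤ n, W = Ek k := by
  classical
  have hex : ∃ k, W ≤ Ek k := ⟨n, fun v _ i hi => absurd i.2 (by omega)⟩
  set k := Nat.find hex with hk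
  have hkn : k ≤ n := Nat.find_le fun v _ i hi => absurd i.2 (by omega)
  refine ⟨k, hkn, le_antisymm (Nat.find_spec hex) ?_⟩
  rcases Nat.eq_zero_or_pos k with h0 | hpos
  · rw [h0]
    exact fun v hv => by rw [show v = 0 from funext fun i => hv i (Nat.zero_le _)]; exact W.zero_mem
  set j : Fin n := ⟨k - 1, by omega⟩ with hj
  obtain ⟨v, hv, hvj⟩ : ∃ v ∈ W, v j ≠ 0 := by
    by_contra hno
    push Not at hno
    refine Nat.find_min hex (show k - 1 < k by omega) fun v hv i hi => ?_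
    rcases Nat.eq_or_lt_of_le hi with h | h
    · rw [show i = j from Fin.ext h.symm]; exact hno v hv
    · exact Nat.find_spec hex hv i (by omega)
  have hlow : ∀ i : Fin n, i < j → Pi.single i 1 ∈ W := fun i hi => by
    have h1 := (hW i j hi (v j)⁻¹ v).1 hv
    rw [rt, transvection_mulVec, inv_mul_cancel₀ hvj, one_smul] at h1
    simpa using W.sub_mem h1 hv
  have hsum : ∀ w : Fin n → F, w ∈ (Ek k : Submodule F (Fin n → F)) → w j = 0 → w ∈ W := by
    intro w hw hwj
    rw [← Finset.univ_sum_single w]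
    refine Submodule.sum_mem W fun i _ => ?_
    rcases lt_trichotomy i j with h | h | h
    · rw [show Pi.single i (w i) = w i • (Pi.single i 1 : Fin n → F) by simp [← Pi.single_smul]]
      exact W.smul_mem _ (hlow i h)
    · subst h; rw [hwj, Pi.single_zero]; exact W.zero_mem
    · rw [hw i (by rw [Fin.lt_def, hj] at h; dsimp at h; omega), Pi.single_zero]; exact W.zero_mem
  intro w hw
  set c := w j / v j with hc
  have hwv : w - c • v ∈ W := hsum _ (Submodule.sub_mem _ hw (Submodule.smul_mem _ c (Nat.find_spec hex hv)))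
    (by simp [hc, div_mul_cancel₀ _ hvj])
  simpa using W.add_mem hwv (W.smul_mem c hv)

theorem Ek_injective {i j : ℕ} (hi : i ≤ n) (hj : j ≤ n) (h : (Ek i : Submodule F (Fin n → F)) = Ek j) : i = j := by
  have h1 := card_Ek (F := F) hi
  rw [h, card_Ek hj] at h1
  exact (Nat.pow_right_injective Fintype.one_lt_card h1).symm

theorem rt_mem_stW {i j : Fin n} (h : i < j) (c : F) (k : ℕ) : rt h c ∈ stW (Ek k : Submodule F (Fin n → F)) :=
  mem_stW fun v hv a ha => by
    rw [rt, transvection_mulVec, Pi.add_apply, hv a ha, zero_add, Pi.smul_apply, smul_eq_mul]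
    by_cases hai : a = i
    · subst hai
      rw [hv j (ha.trans (Fin.lt_def.1 h).le)]
      simp
    · simp [Pi.single_apply, hai]

/-- A lower simple root element. -/
def lo (k : ℕ) (h : 0 < k) (hk : k < n) : SLn :=
  SpecialLinearGroup.transvection (i := (⟨k, hk⟩ : Fin n)) (j := ⟨k - 1, by omega⟩) (by simp [Fin.ext_iff]; omega) 1

theorem lo_mem {k : ℕ} (h : 0 < k) (hk : k < n) {i : ℕ} (hi : i ≠ k) : lo k h hk ∈ stW (Ek i : Submodule F (Fin n → F)) :=
  mem_stW fun v hv a ha => by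
    rw [lo, transvection_mulVec, Pi.add_apply, hv a ha, zero_add, Pi.smul_apply, smul_eq_mul]
    by_cases hak : (a : ℕ) = k
    · rw [hv ⟨k - 1, by omega⟩ (show i ≤ k - 1 by omega)]
      simp
    · rw [Pi.single_apply, if_neg (fun e => hak (congrArg Fin.val e)), mul_zero]

theorem lo_not_mem {k : ℕ} (h : 0 < k) (hk : k < n) : lo k h hk ∉ stW (Ek k : Submodule F (Fin n → F)) := fun hm => by
  have h1 := (hm (Pi.single (⟨k - 1, by omega⟩ : Fin n) 1)).1
    (fun a ha => Pi.single_eq_of_ne (fun e => by subst e; dsimp at ha; omega) _) ⟨k, hk⟩ le_rfl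
  rw [lo, transvection_mulVec] at h1
  simp [Pi.single_apply, Fin.ext_iff, show k ≠ k - 1 by omega] at h1

/-- The image of a subspace under a semilinear map. -/
def semiImg (g : GL (Fin n) F) (σ : F ≃+* F) (W : Submodule F (Fin n → F)) : Submodule F (Fin n → F) where
  carrier := {w | σ.symm ∘ ((g⁻¹).val *ᵥ w) ∈ W}
  add_mem' := fun {a b} ha hb => by
    have : σ.symm ∘ ((g⁻¹).val *ᵥ (a + b)) = σ.symm ∘ ((g⁻¹).val *ᵥ a) + σ.symm ∘ ((g⁻¹).val *ᵥ b) := by
      funext i; simp [Matrix.mulVec_add]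
    show σ.symm ∘ _ ∈ W
    rw [this]; exact W.add_mem ha hb
  zero_mem' := by
    show σ.symm ∘ ((g⁻¹).val *ᵥ 0) ∈ W
    convert W.zero_mem using 1
    funext i; simp
  smul_mem' := fun c v hv => by
    have : σ.symm ∘ ((g⁻¹).val *ᵥ (c • v)) = σ.symm c • σ.symm ∘ ((g⁻¹).val *ᵥ v) := by
      funext i; simp [Matrix.mulVec_smul]
    show σ.symm ∘ _ ∈ W
    rw [this]; exact W.smul_mem _ hv

theorem card_semiImg (g : GL (Fin n) F) (σ : F ≃+* F) (W : Submodule F (Fin n → F)) :
    Nat.card (semiImg g σ W) = Nat.card W := by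
  refine Nat.card_congr
    { toFun := fun w => ⟨_, w.2⟩
      invFun := fun v => ⟨g.val *ᵥ (σ ∘ v.1), ?_⟩
      left_inv := fun w => Subtype.ext ?_
      right_inv := fun v => Subtype.ext ?_ }
  · show σ.symm ∘ _ ∈ W
    rw [Matrix.mulVec_mulVec, Units.inv_mul, Matrix.one_mulVec]
    convert v.2 using 1
    funext i; simp
  · show g.val *ᵥ (σ ∘ (σ.symm ∘ ((g⁻¹).val *ᵥ w.1))) = w.1
    rw [← Function.comp_assoc, show (σ : F → F) ∘ σ.symm = id from funext σ.apply_symm_apply, Function.id_comp,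
      Matrix.mulVec_mulVec, Units.mul_inv, Matrix.one_mulVec]
  · show σ.symm ∘ ((g⁻¹).val *ᵥ (g.val *ᵥ (σ ∘ v.1))) = v.1
    rw [Matrix.mulVec_mulVec, Units.inv_mul, Matrix.one_mulVec]
    funext i; simp

theorem semi_mem (g : GL (Fin n) F) (σ : F ≃+* F) {W : Submodule F (Fin n → F)} {x : SLn} (hx : x ∈ stW W) :
    cnjHom g (frobHom σ x) ∈ stW (semiImg g σ W) := by
  refine mem_stW fun w hw => ?_
  show σ.symm ∘ _ ∈ W
  have hcomp : σ.symm ∘ (x.1.map σ *ᵥ ((g⁻¹).val *ᵥ w)) = x.1 *ᵥ (σ.symm ∘ ((g⁻¹).val *ᵥ w)) := by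
    funext i
    show σ.symm (∑ a, x.1.map σ i a * ((g⁻¹).val *ᵥ w) a) = ∑ a, x.1 i a * σ.symm (((g⁻¹).val *ᵥ w) a)
    simp only [map_sum, map_mul, Matrix.map_apply, RingEquiv.symm_apply_apply]
  rw [cnjHom_coe, frobHom_coe, Matrix.mulVec_mulVec, Matrix.mul_assoc, ← Matrix.mul_assoc (g⁻¹).val, Units.inv_mul,
    Matrix.one_mul, ← Matrix.mulVec_mulVec, hcomp]
  exact (hx _).1 hw

/-- The annihilator of a subspace. -/
def dual (W : Submodule F (Fin n → F)) : Submodule F (Fin n → F) where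
  carrier := {w | ∀ v ∈ W, w ⬝ᵥ v = 0}
  add_mem' := fun {a b} ha hb v hv => by rw [add_dotProduct, ha v hv, hb v hv, add_zero]
  zero_mem' := fun v _ => zero_dotProduct v
  smul_mem' := fun c w hw v hv => by rw [smul_dotProduct, hw v hv, smul_zero]

theorem dual_mem {W : Submodule F (Fin n → F)} {x : SLn} (hx : x ∈ stW W) : tinv x ∈ stW (dual W) := by
  refine mem_stW fun w hw v hv => ?_
  rw [tinv_coe, Matrix.mulVec_transpose, ← Matrix.dotProduct_mulVec]
  exact hw _ ((inv_mem hx v).1 hv)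

theorem dual_Ek (k : ℕ) : dual (Ek k : Submodule F (Fin n → F)) = Lk k := by
  refine le_antisymm (fun w hw i hi => ?_) fun w hw v hv => ?_
  · have := hw (Pi.single i 1) fun a ha => Pi.single_eq_of_ne (fun e => by subst e; omega) _
    simpa using this
  · refine Finset.sum_eq_zero fun i _ => ?_
    by_cases hi : (i : ℕ) < k
    · rw [hw i hi, zero_mul]
    · rw [hv i (by omega), mul_zero]

variable (p : ℕ) [Fact p.Prime] [CharP F p]

/-- An automorphism moves a flag stabiliser into the stabiliser of a subspace of the same or complementary size. -/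
theorem exists_image (p : ℕ) [Fact p.Prime] [CharP F p] (hn : 2 ≤ n) (θ : MulAut PSLn) : ∀ k ≤ n, ∃ W : Submodule F (Fin n → F),
    (Nat.card W = Fintype.card F ^ k ∨ Nat.card W = Fintype.card F ^ (n - k)) ∧
      (stK (Ek k)).map θ.toMonoidHom ≤ stK W := by
  intro k hk
  obtain ⟨g, σ, h | h⟩ := exists_decomp (p := p) hn θ
  · refine ⟨semiImg g σ (Ek k), Or.inl (by rw [card_semiImg, card_Ek hk]), ?_⟩
    rintro _ ⟨_, ⟨x, hx, rfl⟩, rfl⟩
    rw [h]
    exact ⟨_, semi_mem g σ hx, rfl⟩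
  · refine ⟨semiImg g σ (Lk k), Or.inr (by rw [card_semiImg, card_Lk hk]), ?_⟩
    rintro _ ⟨_, ⟨x, hx, rfl⟩, rfl⟩
    rw [h]
    exact ⟨_, semi_mem g σ (show tinv x ∈ stW (Lk k) by rw [← dual_Ek]; exact dual_mem hx), rfl⟩

/-- A Sylow subgroup fixing the flag. -/
theorem exists_sylow_flag (hn : 2 ≤ n) : ∃ U : Sylow p PSLn,
    (∀ (i j : Fin n) (h : i < j) (c : F), π₀ (rt h c) ∈ (U : Subgroup PSLn)) ∧
      ∀ k ≤ n, (U : Subgroup PSLn) ≤ stK (Ek k) := by
  obtain ⟨U₀, hU₀, hroot⟩ := Cfsg.Lib.DefChar.InnerFix.exists_uni (F := F) p hn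
  obtain ⟨U, hU⟩ := hU₀.exists_le_sylow
  have hr : ∀ (i j : Fin n) (h : i < j) (c : F), π₀ (rt h c) ∈ (U : Subgroup PSLn) :=
    fun i j h c => hU (hroot i j h c)
  refine ⟨U, hr, fun k hk => ?_⟩
  set U₁ : Subgroup PSLn := (U : Subgroup PSLn) ⊓ ⨅ l : Fin (n + 1), stK (Ek (l : ℕ)) with hU₁
  have hrU₁ : ∀ (i j : Fin n) (h : i < j) (c : F), π₀ (rt h c) ∈ U₁ :=
    fun i j h c => ⟨hr i j h c, Subgroup.mem_iInf.2 fun l => mem_stK.2 (rt_mem_stW h c l)⟩
  have key : U₁ = (U : Subgroup PSLn) := by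
    refine eq_of_normalizer_le U.2 inf_le_left fun x hx => ⟨hx.1, Subgroup.mem_iInf.2 fun l => ?_⟩
    obtain ⟨g, rfl⟩ := QuotientGroup.mk'_surjective (Subgroup.center SLn) x
    set W := semiImg (SpecialLinearGroup.toGL g) (RingEquiv.refl F) (Ek (l : ℕ)) with hW
    have hmemW : ∀ v, v ∈ W ↔ ((g⁻¹ : SLn) : Matrix (Fin n) (Fin n) F) *ᵥ v ∈ (Ek (l : ℕ) : Submodule F (Fin n → F)) :=
      fun v => by rw [hW]; rfl
    obtain ⟨j, hj, hWj⟩ := eq_Ek_of_invariant (W := W) fun i j h c => by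
      have h1 := (Subgroup.mem_normalizer_iff''.1 hx.2 (π₀ (rt h c))).1 (hrU₁ i j h c)
      rw [← map_inv, ← map_mul, ← map_mul] at h1
      have h2 := mem_stK.1 (Subgroup.mem_iInf.1 h1.2 l)
      refine mem_stW fun v hv => ?_
      rw [hmemW] at hv ⊢
      have := (h2 _).1 hv
      rwa [Matrix.mulVec_mulVec, ← Matrix.SpecialLinearGroup.coe_mul,
        show g⁻¹ * rt h c * g * g⁻¹ = g⁻¹ * rt h c by group, Matrix.SpecialLinearGroup.coe_mul,
        ← Matrix.mulVec_mulVec] at this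
    have hcard := card_semiImg (SpecialLinearGroup.toGL g) (RingEquiv.refl F) (Ek (l : ℕ))
    rw [← hW, hWj, card_Ek hj, card_Ek (by omega : (l : ℕ) ≤ n)] at hcard
    obtain rfl : j = (l : ℕ) := Nat.pow_right_injective Fintype.one_lt_card hcard
    refine mem_stK.2 (mem_stW fun v hv => ?_)
    rw [← hWj, hmemW, Matrix.mulVec_mulVec, ← Matrix.SpecialLinearGroup.coe_mul, inv_mul_cancel,
      Matrix.SpecialLinearGroup.coe_one, Matrix.one_mulVec]
    exact hv
  rw [← key]
  exact inf_le_right.trans (iInf_le _ (⟨k, by omega⟩ : Fin (n + 1)))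

variable {p}

/-- A subspace stabilised by a group containing the root elements. -/
theorem eq_Ek_of_stK {U : Subgroup PSLn} (hr : ∀ (i j : Fin n) (h : i < j) (c : F), π₀ (rt h c) ∈ U)
    {W : Submodule F (Fin n → F)} (h : U ≤ stK W) : ∃ k ≤ n, W = Ek k :=
  eq_Ek_of_invariant fun i j hij c => mem_stK.1 (h (hr i j hij c))

/-- The stabilisers of the flag members are proper. -/
theorem stK_Ek_ne_top {k : ℕ} (h : 0 < k) (hk : k < n) : stK (Ek k : Submodule F (Fin n → F)) ≠ ⊤ := fun e =>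
  lo_not_mem h hk (mem_stK.1 (e ▸ Subgroup.mem_top (π₀ (lo k h hk))))

/-- A proper overgroup fixes a member of the flag. -/
theorem exists_le_stK (hn : 2 ≤ n) (hK : Cfsg.IsChevSimple p PSLn) {U M : Subgroup PSLn} (hU : ¬ p ∣ U.index)
    (hr : ∀ (i j : Fin n) (h : i < j) (c : F), π₀ (rt h c) ∈ U) (hUM : U ≤ M) (hM : M ≠ ⊤) :
    ∃ k, 0 < k ∧ k < n ∧ M ≤ stK (Ek k) := by
  obtain ⟨D, hD, hDk, hMD⟩ := exists_normalized π₀ (QuotientGroup.mk'_surjective _) (QuotientGroup.ker_mk' _).le hK hU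
    hUM hM
  set W := fixedSpace D with hW
  have hle : M ≤ stK W := fun x hx => by
    obtain ⟨g, rfl⟩ := QuotientGroup.mk'_surjective (Subgroup.center SLn) x
    exact mem_stK.2 (mem_stW fun v hv => fixedSpace_stable (hMD hx) hv)
  obtain ⟨k, hk, hWk⟩ := eq_Ek_of_stK hr (hUM.trans hle)
  have hne : D ≠ ⊥ := fun e => hDk (e ▸ bot_le)
  refine ⟨k, Nat.pos_of_ne_zero fun e => fixedSpace_ne_bot p (by omega : 1 ≤ n) hD ?_, ?_, hWk ▸ hle⟩
  · rw [← hW, hWk, e]
    exact (Submodule.eq_bot_iff _).2 fun v hv => funext fun i => hv i (Nat.zero_le _)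
  · by_contra hkn
    refine fixedSpace_ne_top hne ?_
    rw [← hW, hWk]
    exact eq_top_iff.2 fun v _ i hi => absurd i.2 (by omega)

/-- The Sylow subgroup is not normal. -/
theorem base_sylow (hn : 2 ≤ n) {U : Sylow p PSLn} (hr : ∀ (i j : Fin n) (h : i < j) (c : F), π₀ (rt h c) ∈ (U : Subgroup PSLn))
    (hE : ∀ k ≤ n, (U : Subgroup PSLn) ≤ stK (Ek k)) : Base p (U : Subgroup PSLn) := by
  refine ⟨U.2, U.not_dvd_index, fun h => ?_⟩
  haveI := Subgroup.normalizer_eq_top_iff.1 h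
  set g := lo (F := F) 1 Nat.one_pos (by omega : 1 < n)
  set W := semiImg (SpecialLinearGroup.toGL g) (RingEquiv.refl F) (Ek 1)
  have hmemW : ∀ v, v ∈ W ↔ ((g⁻¹ : SLn) : Matrix (Fin n) (Fin n) F) *ᵥ v ∈ (Ek 1 : Submodule F (Fin n → F)) :=
    fun v => Iff.rfl
  obtain ⟨j, hj, hWj⟩ := eq_Ek_of_invariant (W := W) fun i j h c => by
    have h1 := (inferInstance : (U : Subgroup PSLn).Normal).conj_mem _ (hr i j h c) (π₀ g)⁻¹
    rw [inv_inv, ← map_inv, ← map_mul, ← map_mul] at h1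
    have h2 := mem_stK.1 (hE 1 (by omega) h1)
    refine mem_stW fun v hv => ?_
    rw [hmemW] at hv ⊢
    have := (h2 _).1 hv
    rwa [Matrix.mulVec_mulVec, ← Matrix.SpecialLinearGroup.coe_mul,
      show g⁻¹ * rt h c * g * g⁻¹ = g⁻¹ * rt h c by group, Matrix.SpecialLinearGroup.coe_mul,
      ← Matrix.mulVec_mulVec] at this
  have hcard := card_semiImg (SpecialLinearGroup.toGL g) (RingEquiv.refl F) (Ek 1)
  rw [show semiImg (SpecialLinearGroup.toGL g) (RingEquiv.refl F) (Ek 1) = W from rfl, hWj, card_Ek hj,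
    card_Ek (by omega : 1 ≤ n)] at hcard
  obtain rfl : j = 1 := Nat.pow_right_injective Fintype.one_lt_card hcard
  refine lo_not_mem (F := F) Nat.one_pos (by omega : 1 < n) (mem_stW fun v hv => ?_)
  rw [← hWj, hmemW, Matrix.mulVec_mulVec, ← Matrix.SpecialLinearGroup.coe_mul, inv_mul_cancel,
    Matrix.SpecialLinearGroup.coe_one, Matrix.one_mulVec]
  exact hv

/-- An automorphism keeping the Sylow subgroup permutes the flag stabilisers. -/
theorem map_stK_le (hn : 2 ≤ n) {U : Subgroup PSLn} (hr : ∀ (i j : Fin n) (h : i < j) (c : F), π₀ (rt h c) ∈ U)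
    (hE : ∀ k ≤ n, U ≤ stK (Ek k)) {θ : MulAut PSLn} (hθ : U.map θ.toMonoidHom = U) (p : ℕ) [Fact p.Prime] [CharP F p]
    {k : ℕ} (hk : k ≤ n) : ∃ j, (j = k ∨ j = n - k) ∧ (stK (Ek k)).map θ.toMonoidHom ≤ stK (Ek j) := by
  obtain ⟨W, hW, hle⟩ := exists_image p hn θ k hk
  obtain ⟨j, hj, rfl⟩ := eq_Ek_of_stK hr (hθ.symm.le.trans ((Subgroup.map_mono (hE k hk)).trans hle))
  rw [card_Ek hj] at hW
  exact ⟨j, hW.imp (fun h => Nat.pow_right_injective Fintype.one_lt_card h)
    (fun h => Nat.pow_right_injective Fintype.one_lt_card h), hle⟩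

/-- Two flag stabilisers, or two pairs of them, generate. -/
theorem sup_eq_top (hn : 2 ≤ n) (hK : Cfsg.IsChevSimple p PSLn) {U : Sylow p PSLn}
    (hr : ∀ (i j : Fin n) (h : i < j) (c : F), π₀ (rt h c) ∈ (U : Subgroup PSLn)) {A B : Subgroup PSLn}
    (hUA : (U : Subgroup PSLn) ≤ A)
    (h : ∀ (k : ℕ) (h0 : 0 < k) (hk : k < n), π₀ (lo (F := F) k h0 hk) ∈ A ∨ π₀ (lo (F := F) k h0 hk) ∈ B) :
    A ⊔ B = ⊤ := by
  by_contra hne
  obtain ⟨k, hk0, hkn, hle⟩ := exists_le_stK hn hK U.not_dvd_index hr (hUA.trans le_sup_left) hne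
  exact lo_not_mem hk0 hkn (mem_stK.1 (hle ((h k hk0 hkn).elim Subgroup.mem_sup_left Subgroup.mem_sup_right)))

/-- Dimension at least four. -/
theorem split_psl (hn : 4 ≤ n) (hK : Cfsg.IsChevSimple p PSLn) : Split p PSLn := by
  obtain ⟨U, hr, hE⟩ := exists_sylow_flag (F := F) p (by omega : 2 ≤ n)
  have hpair : ∀ a, 0 < a → a < n → ∀ θ : MulAut PSLn, (U : Subgroup PSLn).map θ.toMonoidHom = U →
      (stK (Ek a) ⊓ stK (Ek (n - a))).map θ.toMonoidHom = stK (Ek a) ⊓ stK (Ek (n - a)) := by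
    intro a ha0 ha θ hθ
    refine Subgroup.eq_of_le_of_card_ge ?_ (Nat.card_congr ((stK (Ek a) ⊓ stK (Ek (n - a))).equivMapOfInjective _
      θ.injective).toEquiv).le
    obtain ⟨j₁, hj₁, h₁⟩ := map_stK_le (by omega) hr hE hθ p ha.le
    obtain ⟨j₂, hj₂, h₂⟩ := map_stK_le (by omega) hr hE hθ p (Nat.sub_le n a)
    rw [Nat.sub_sub_self ha.le] at hj₂
    rintro _ ⟨x, ⟨hxa, hxb⟩, rfl⟩
    have m1 : θ.toMonoidHom x ∈ stK (Ek j₁) := h₁ ⟨x, hxa, rfl⟩
    have m2 : θ.toMonoidHom x ∈ stK (Ek j₂) := h₂ ⟨x, hxb, rfl⟩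
    -- distinct indices have distinct images
    have hne : j₁ = j₂ → a = n - a := fun e => by
      by_contra hd
      have htop : stK (Ek a : Submodule F (Fin n → F)) ⊔ stK (Ek (n - a)) = ⊤ :=
        sup_eq_top (by omega) hK hr (hE a ha.le) fun k h0 hk => (em (k = a)).elim
          (fun e => Or.inr (mem_stK.2 (lo_mem h0 hk (by omega))))
          (fun e => Or.inl (mem_stK.2 (lo_mem h0 hk (Ne.symm e))))
      refine stK_Ek_ne_top (F := F) (n := n) (k := j₁) (by omega) (by omega) (top_le_iff.1 ?_)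
      rw [← Subgroup.map_top_of_surjective θ.toMonoidHom θ.surjective, ← htop, Subgroup.map_sup]
      exact sup_le h₁ (e ▸ h₂)
    rcases hj₁ with rfl | rfl <;> rcases hj₂ with rfl | rfl
    · exact ⟨m1, m2⟩
    · exact ⟨m1, (hne rfl) ▸ m1⟩
    · exact ⟨(hne rfl).symm ▸ m1, m1⟩
    · exact ⟨m2, m1⟩
  refine ⟨U, stK (Ek 1) ⊓ stK (Ek (n - 1)), stK (Ek 2) ⊓ stK (Ek (n - 2)), base_sylow (by omega) hr hE,
    le_inf (hE _ (by omega)) (hE _ (by omega)), le_inf (hE _ (by omega)) (hE _ (by omega)),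
    fun e => stK_Ek_ne_top (F := F) (n := n) Nat.one_pos (by omega) (top_le_iff.1 (e ▸ inf_le_left)),
    fun e => stK_Ek_ne_top (F := F) (n := n) Nat.two_pos (by omega) (top_le_iff.1 (e ▸ inf_le_left)),
    sup_eq_top (by omega) hK hr (le_inf (hE _ (by omega)) (hE _ (by omega))) fun k h0 hk => ?_,
    fun θ hθ => ⟨hpair 1 (by omega) (by omega) θ hθ.2, hpair 2 (by omega) (by omega) θ hθ.2⟩⟩
  by_cases h1 : k = 1 ∨ k = n - 1
  · exact Or.inr ⟨mem_stK.2 (lo_mem h0 hk (by omega)), mem_stK.2 (lo_mem h0 hk (by omega))⟩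
  · exact Or.inl ⟨mem_stK.2 (lo_mem h0 hk (by omega)), mem_stK.2 (lo_mem h0 hk (by omega))⟩

/-- The upper triangular group. -/
def tri : Subgroup SLn := ⨅ k : Fin (n + 1), stW (Ek (k : ℕ))

theorem tri_apply {g : SLn} (hg : g ∈ tri) {i j : Fin n} (hji : j < i) : (g : Matrix (Fin n) (Fin n) F) i j = 0 := by
  have h1 := (Subgroup.mem_iInf.1 hg ⟨(j : ℕ) + 1, by omega⟩ (Pi.single j 1)).1
    (fun a ha => Pi.single_eq_of_ne (fun e => by subst e; dsimp at ha; omega) _) i (Nat.succ_le_of_lt (Fin.lt_def.1 hji))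
  simpa [Matrix.mulVec_single_one] using h1

theorem tri_mul_diag {g h : SLn} (hg : g ∈ tri) (hh : h ∈ tri) (i : Fin n) :
    ((g * h : SLn) : Matrix (Fin n) (Fin n) F) i i = g.1 i i * h.1 i i := by
  rw [Matrix.SpecialLinearGroup.coe_mul, Matrix.mul_apply, Finset.sum_eq_single i]
  · intro a _ ha
    rcases lt_or_gt_of_ne ha with h1 | h1
    · rw [tri_apply hg h1, zero_mul]
    · rw [tri_apply hh h1, mul_zero]
  · intro h1; exact absurd (Finset.mem_univ i) h1

/-- The ratios of the diagonal entries. -/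
def ratio : ↥(tri (n := n) (F := F)) →* (Fin n × Fin n → F) where
  toFun h ij := h.1.1 ij.1 ij.1 * (h.1.1 ij.2 ij.2)⁻¹
  map_one' := by funext ij; simp
  map_mul' a b := by
    funext ij
    show ((a.1 * b.1 : SLn) : Matrix (Fin n) (Fin n) F) ij.1 ij.1 * (((a.1 * b.1 : SLn) : Matrix (Fin n) (Fin n) F) ij.2 ij.2)⁻¹ = _
    rw [tri_mul_diag a.2 b.2, tri_mul_diag a.2 b.2, _root_.mul_inv, mul_mul_mul_comm]
    rfl

theorem tri_diag_ne_zero {g : SLn} (hg : g ∈ tri) (i : Fin n) : g.1 i i ≠ 0 := fun h => by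
  have := tri_mul_diag hg (inv_mem hg) i
  rw [mul_inv_cancel, Matrix.SpecialLinearGroup.coe_one, Matrix.one_apply_eq, h, zero_mul] at this
  exact one_ne_zero this

/-- The `p`-group of triangular elements with constant diagonal, modulo scalars. -/
def triCore : Subgroup PSLn := ((ratio (n := n) (F := F)).ker.map tri.subtype).map π₀

theorem triCore_pgroup (hn : 2 ≤ n) : IsPGroup p (triCore (n := n) (F := F)) := by
  rintro ⟨_, _, ⟨h, hh, rfl⟩, rfl⟩
  refine ⟨n, Subtype.ext ?_⟩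
  haveI : Nonempty (Fin n) := ⟨⟨0, by omega⟩⟩
  have hpn : n ≤ p ^ n := (Nat.lt_pow_self (Fact.out : p.Prime).one_lt).le
  set i₀ : Fin n := ⟨0, by omega⟩
  set d := h.1.1 i₀ i₀ with hd
  have hdi : ∀ i, h.1.1 i i = d := fun i => by
    have e : h.1.1 i i * (h.1.1 i₀ i₀)⁻¹ = 1 := congrFun hh (i, i₀)
    exact (mul_inv_eq_one₀ (tri_diag_ne_zero h.2 i₀)).1 e
  set N : Matrix (Fin n) (Fin n) F := h.1.1 - Matrix.scalar (Fin n) d with hN
  have hN0 : ∀ (m : ℕ) (i j : Fin n), (j : ℕ) < (i : ℕ) + m → (N ^ m) i j = 0 := by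
    intro m
    induction m with
    | zero =>
      intro i j hij
      rw [pow_zero, Matrix.one_apply_ne (by intro e; subst e; omega)]
    | succ m ih =>
      intro i j hij
      rw [pow_succ, Matrix.mul_apply]
      refine Finset.sum_eq_zero fun a _ => ?_
      by_cases ha : (a : ℕ) < (i : ℕ) + m
      · rw [ih i a ha, zero_mul]
      · have hja : j ≤ a := Fin.le_def.2 (by omega)
        rcases lt_or_eq_of_le hja with h1 | h1
        · simp [hN, Matrix.scalar_apply, tri_apply h.2 h1, h1.ne']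
        · subst h1; simp [hN, Matrix.scalar_apply, hdi]
  have hNn : N ^ (p ^ n) = 0 := by
    ext i j
    exact hN0 _ i j (by omega)
  have hscal : h.1.1 ^ (p ^ n) = Matrix.scalar (Fin n) (d ^ (p ^ n)) := by
    have hc : Commute N (Matrix.scalar (Fin n) d) :=
      ((Matrix.scalar_commute d (fun r => mul_comm _ _) N)).symm
    rw [show h.1.1 = N + Matrix.scalar (Fin n) d by rw [hN, sub_add_cancel], add_pow_char_pow_of_commute p n hc, hNn,
      zero_add, map_pow]
  show π₀ h.1 ^ (p ^ n) = 1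
  rw [← map_pow]
  refine (QuotientGroup.eq_one_iff _).2 (Matrix.SpecialLinearGroup.mem_center_iff.2 ⟨d ^ (p ^ n), ?_, ?_⟩)
  · have := congrArg Matrix.det hscal
    rw [Matrix.det_pow, h.1.2, one_pow, Matrix.scalar_apply, Matrix.det_diagonal, Finset.prod_const,
      Finset.card_univ] at this
    exact this.symm
  · rw [Matrix.SpecialLinearGroup.coe_pow, hscal]

/-- The stabiliser of the whole flag normalises the Sylow subgroup. -/
theorem borel_le_normalizer (hn : 2 ≤ n) {U : Sylow p PSLn} (hE : ∀ k ≤ n, (U : Subgroup PSLn) ≤ stK (Ek k))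
    {x : PSLn} (hx : ∀ k, 0 < k → k < n → x ∈ stK (Ek k)) : x ∈ Subgroup.normalizer ((U : Subgroup PSLn) : Set PSLn) := by
  have htri : ∀ g : SLn, (∀ k, 0 < k → k < n → π₀ g ∈ stK (Ek k)) → g ∈ tri := fun g hg =>
    Subgroup.mem_iInf.2 fun k => by
      rcases Nat.eq_zero_or_pos (k : ℕ) with h0 | h0
      · rw [h0]
        exact mem_stW fun v hv => by
          rw [show v = 0 from funext fun i => hv i (Nat.zero_le _), Matrix.mulVec_zero]
          exact Submodule.zero_mem _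
      by_cases hk : (k : ℕ) < n
      · exact mem_stK.1 (hg k h0 hk)
      · exact mem_stW fun v _ a ha => absurd a.2 (by omega)
  have hUle : (U : Subgroup PSLn) ≤ triCore := by
    intro y hy
    obtain ⟨h, rfl⟩ := QuotientGroup.mk'_surjective (Subgroup.center SLn) y
    have ht : h ∈ tri := htri h fun k _ hk => hE k hk.le hy
    refine ⟨h, ⟨⟨h, ht⟩, ?_, rfl⟩, rfl⟩
    obtain ⟨k, hk⟩ := U.2 ⟨_, hy⟩
    have hk' : π₀ (h ^ p ^ k) = 1 := by rw [map_pow]; exact congrArg Subtype.val hk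
    obtain ⟨r, -, hr'⟩ := Matrix.SpecialLinearGroup.mem_center_iff.1 ((QuotientGroup.eq_one_iff _).1 hk')
    show ratio (⟨h, ht⟩ : ↥(tri (n := n) (F := F))) = 1
    funext ij
    have hpow : ratio ((⟨h, ht⟩ : ↥(tri (n := n) (F := F))) ^ p ^ k) ij = 1 := by
      show (h ^ p ^ k : SLn).1 ij.1 ij.1 * ((h ^ p ^ k : SLn).1 ij.2 ij.2)⁻¹ = 1
      rw [← hr', Matrix.scalar_apply, Matrix.diagonal_apply_eq, Matrix.diagonal_apply_eq]
      refine mul_inv_cancel₀ fun e => ?_
      have := congrArg Matrix.det hr'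
      rw [e, (h ^ p ^ k).2, Matrix.scalar_apply, Matrix.det_diagonal, Finset.prod_const,
        zero_pow (by simp; omega)] at this
      exact zero_ne_one this
    rw [map_pow, Pi.pow_apply] at hpow
    exact iterateFrobenius_inj F p k (by rw [iterateFrobenius_def, iterateFrobenius_def, hpow, Pi.one_apply, one_pow])
  have heq : triCore = (U : Subgroup PSLn) := U.3 (triCore_pgroup hn) hUle
  obtain ⟨g, rfl⟩ := QuotientGroup.mk'_surjective (Subgroup.center SLn) x
  have hg : g ∈ tri := htri g hx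
  rw [← heq]
  have key : ∀ c : ↥(tri (n := n) (F := F)), ∀ y ∈ (triCore : Subgroup PSLn), π₀ c.1 * y * (π₀ c.1)⁻¹ ∈ triCore := by
    rintro c _ ⟨_, ⟨h, hh, rfl⟩, rfl⟩
    exact ⟨_, ⟨c * h * c⁻¹, (MonoidHom.normal_ker _).conj_mem h hh c, rfl⟩, by simp⟩
  refine Subgroup.mem_normalizer_iff.2 fun y => ⟨key ⟨g, hg⟩ y, fun hy => ?_⟩
  have := key ⟨g, hg⟩⁻¹ _ hy
  simpa [mul_assoc] using this

/-- Dimension two. -/
theorem rankOne_psl (hn : n = 2) (hK : Cfsg.IsChevSimple p PSLn) : RankOne p PSLn := by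
  obtain ⟨U, hr, hE⟩ := exists_sylow_flag (F := F) p (by omega : 2 ≤ n)
  refine ⟨U, base_sylow (by omega) hr hE, fun M hM => ?_⟩
  refine (em (M = ⊤)).elim Or.inr fun hM' => Or.inl (le_antisymm (fun x hx => ?_) hM)
  obtain ⟨k, hk0, hkn, hle⟩ := exists_le_stK (by omega) hK U.not_dvd_index hr
    (Subgroup.le_normalizer.trans hM) hM'
  refine borel_le_normalizer (by omega) hE fun j hj0 hjn => ?_
  obtain rfl : k = j := by omega
  exact hle hx

/-- Dimension three. -/
theorem pair_psl (hn : n = 3) (hK : Cfsg.IsChevSimple p PSLn) : Pair p PSLn := by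
  obtain ⟨U, hr, hE⟩ := exists_sylow_flag (F := F) p (by omega : 2 ≤ n)
  refine ⟨U, stK (Ek 1), stK (Ek 2), base_sylow (by omega) hr hE, hE 1 (by omega), hE 2 (by omega),
    stK_Ek_ne_top Nat.one_pos (by omega), stK_Ek_ne_top Nat.two_pos (by omega),
    sup_eq_top (by omega) hK hr (hE 1 (by omega)) fun k h0 hk => ?_, fun x hx => ?_, fun M hUM hM => ?_⟩
  · by_cases h : k = 1
    · exact Or.inr (mem_stK.2 (lo_mem h0 hk (by omega)))
    · exact Or.inl (mem_stK.2 (lo_mem h0 hk (Ne.symm h)))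
  · refine borel_le_normalizer (by omega) hE fun k h0 hk => ?_
    rcases (show k = 1 ∨ k = 2 by omega) with rfl | rfl
    · exact hx.1
    · exact hx.2
  · obtain ⟨k, h0, hk, hle⟩ := exists_le_stK (by omega) hK U.not_dvd_index hr hUM hM
    rcases (show k = 1 ∨ k = 2 by omega) with rfl | rfl
    · exact Or.inl hle
    · exact Or.inr hle

end SL

/-- **The special linear family.** -/
theorem kind_psl {p : ℕ} [Fact p.Prime] {n : ℕ} (hn : 2 ≤ n) {F : Type} [Field F] [Fintype F] [CharP F p]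
    (hq : n = 2 → 4 ≤ Fintype.card F) (hK : Cfsg.IsChevSimple p (Matrix.ProjectiveSpecialLinearGroup (Fin n) F)) :
    Kind p (Matrix.ProjectiveSpecialLinearGroup (Fin n) F) := by
  rcases (show n = 2 ∨ n = 3 ∨ 4 ≤ n by omega) with rfl | rfl | h
  · exact Or.inl ⟨rankOne_psl rfl hK, Or.inl ⟨F, inferInstance, inferInstance, inferInstance, hq rfl, ⟨MulEquiv.refl _⟩⟩⟩
  · by_cases hp : p = 2
    · subst hp
      exact Or.inr (Or.inr ⟨pair_psl rfl hK, rfl, Or.inl ⟨F, inferInstance, inferInstance, inferInstance, ⟨MulEquiv.refl _⟩⟩⟩)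
    · exact Or.inr (Or.inl ((pair_psl rfl hK).split hp))
  · exact Or.inr (Or.inl (split_psl h hK))

end Cfsg.Lib.DefChar.PMin
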