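import Cfsg.Agent.Lib.DefChar.PMin.Flag
import Cfsg.Agent.Lib.DefChar.Overgroup.Polar
import Cfsg.Agent.Lib.DefChar.InnerFix.Polar

/-!
# Groups of isometries: overgroups of a Sylow subgroup and their symmetries

A subspace fixed by a Sylow subgroup of the stabiliser of the base flag contains the base point; a semilinear
automorphism keeping that subgroup keeps the stabilisers of the base point and of the base line.
-/

set_option autoImplicit false
set_option linter.unusedSectionVars false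
set_option maxHeartbeats 1000000

namespace Cfsg.Lib.DefChar.PMin

open Cfsg.Lib.Linear.Steinberg Cfsg.Lib.DefChar Module
open Cfsg.Lib.DefChar.InnerFix (Semisim)

variable {F V : Type*} [Field F] [AddCommGroup V] [Module F V] [Finite V] [FiniteDimensional F V]
  {P : Polar F V} {G : Type*} [Group G] [Finite G] (ρ : G →* P.iso)

/-- The stabiliser of a subspace. -/
def stV (W : Submodule F V) : Subgroup G where
  carrier := {g | ∀ v, v ∈ W ↔ (ρ g : V ≃ₗ[F] V) v ∈ W}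
  one_mem' := fun v => by simp
  mul_mem' := fun {a b} ha hb v => by
    rw [map_mul]; exact (hb v).trans (ha _)
  inv_mem' := fun {a} ha v => by
    have := ha ((ρ a⁻¹ : V ≃ₗ[F] V) v)
    rw [show (ρ a : V ≃ₗ[F] V) ((ρ a⁻¹ : V ≃ₗ[F] V) v) = v by simp] at this
    exact this.symm

variable {ρ}

theorem mem_stV {W : Submodule F V} {g : G} (h : ∀ v ∈ W, (ρ g : V ≃ₗ[F] V) v ∈ W) : g ∈ stV ρ W := by
  intro v
  refine ⟨h v, fun hv => ?_⟩
  let T : ↥W → ↥W := fun w => ⟨_, h w w.2⟩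
  obtain ⟨w, hw⟩ := (Finite.injective_iff_surjective (f := T)).1
    (fun a b e => Subtype.ext ((ρ g : V ≃ₗ[F] V).injective (congrArg Subtype.val e))) ⟨_, hv⟩
  rw [← (ρ g : V ≃ₗ[F] V).injective (congrArg Subtype.val hw)]
  exact w.2

theorem scalar_mem_stV {W : Submodule F V} {g : G} {a : F} (h : ∀ v, (ρ g : V ≃ₗ[F] V) v = a • v) : g ∈ stV ρ W :=
  mem_stV fun v hv => by rw [h]; exact W.smul_mem a hv

variable (ρ) in
/-- Long root elements. -/
def Line : Prop :=
  ∀ e : V, e ≠ 0 → P.N e = 0 → ∃ (g : G) (c : F), c ≠ 0 ∧ ∀ v, (ρ g : V ≃ₗ[F] V) v = v + (c * P.β v e) • e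

variable {m : ℕ} {D : Setup P m} {p : ℕ} [hp : Fact p.Prime] [CharP F p]

variable (D) in
/-- What is used of a Sylow subgroup inside the stabiliser of the base flag. -/
def Fits (ρ : G →* P.iso) (B : Subgroup G) : Prop :=
  ∀ i ≤ m, B ≤ stV ρ (D.E i) ∧ layer ρ (D.E i) ≤ B

theorem stV_of_borel (H : Good D p ρ) {b : G} (hb : b ∈ H.borel) {i : ℕ} (hi : i ≤ m) : b ∈ stV ρ (D.E i) :=
  mem_stV fun _ hv => InnerFix.borel_stab H hb hi hv

theorem fits_of_index (H : Good D p ρ) (R : Rich P ρ) {B : Subgroup G} (hB : B ≤ H.borel) (hidx : ¬ p ∣ B.index) :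
    Fits D ρ B := fun _ hi =>
  ⟨fun _ hb => stV_of_borel H (hB hb) hi,
    le_of_normalized hidx (fun x => ⟨2, Subtype.ext (layer_pow R x.2)⟩)
      (le_normalizer_layer fun _ hn _ hw => InnerFix.borel_stab H (hB hn) hi hw)⟩

/-- The base vectors are not zero. -/
theorem e_ne_zero (j : Fin m) : D.e j ≠ 0 := fun h => by
  have := D.frame.ef j j
  rw [if_pos rfl, h, P.zero_left] at this
  exact zero_ne_one this

theorem e_notMem {i : ℕ} {j : Fin m} (h : i ≤ (j : ℕ)) : D.e j ∉ D.E i := fun hm => by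
  have := D.E_βf hm h
  rw [D.frame.ef, if_pos rfl] at this
  exact one_ne_zero this

theorem E_one (hm : 0 < m) : D.E 1 = Submodule.span F {D.e ⟨0, hm⟩} := by
  rw [Setup.E, show {j : Fin m | (j : ℕ) < 1} = {(⟨0, hm⟩ : Fin m)} by ext j; simp [Fin.ext_iff],
    Set.image_singleton]

theorem E_le (hm : 0 < m) {W : Submodule F V} (h : D.e ⟨0, hm⟩ ∈ W) : D.E 1 ≤ W := by
  rw [E_one hm, Submodule.span_singleton_le_iff_mem]; exact h

theorem E_two_le (hm : 1 < m) {W : Submodule F V} (h0 : D.e ⟨0, by omega⟩ ∈ W) (h1 : D.e ⟨1, hm⟩ ∈ W) :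
    D.E 2 ≤ W := by
  refine Submodule.span_le.2 ?_
  rintro _ ⟨j, hj, rfl⟩
  rcases (show (j : ℕ) = 0 ∨ (j : ℕ) = 1 by have : (j : ℕ) < 2 := hj; omega) with h | h
  · rw [show j = ⟨0, by omega⟩ from Fin.ext h]; exact h0
  · rw [show j = ⟨1, hm⟩ from Fin.ext h]; exact h1

/-- A root element with its effect. -/
theorem exists_root (R : Rich P ρ) {e u : V} (he : e ≠ 0) (hN : P.N e = 0) (hue : P.β u e = 0)
    (hu : u ∉ Submodule.span F {e}) : ∃ (g : G) (a b c : F), a ≠ 0 ∧ b ≠ 0 ∧ ∀ v,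
      (ρ g : V ≃ₗ[F] V) v - v = (a * P.β v u) • e + (b * P.β v e) • u + (c * P.β v e) • e := by
  obtain ⟨g, a, b, c, ha, hb, hg⟩ := R.root e u he hN hue hu
  exact ⟨g, a, b, c, ha, hb, fun v => by rw [hg]; abel⟩

theorem root_mem {e u : V} {a b c : F} {g : G} {W : Submodule F V} (he : e ∈ W) (hTS : P.IsTS W)
    (hu : ∀ w ∈ W, P.β w u = 0)
    (hg : ∀ v, (ρ g : V ≃ₗ[F] V) v - v = (a * P.β v u) • e + (b * P.β v e) • u + (c * P.β v e) • e) :
    g ∈ layer ρ W := by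
  refine ⟨fun w hw => ?_, fun v hv => ?_⟩
  · rw [← sub_eq_zero, hg, hu w hw, hTS.2 w hw e he]; simp
  · rw [hg, hv e he]; simpa using W.smul_mem _ he

/-- Not in a span, seen by a vector. -/
theorem notMem_span {e u v : V} (hve : P.β v e = 0) (hvu : P.β v u ≠ 0) : u ∉ Submodule.span F {e} := fun h => by
  obtain ⟨k, rfl⟩ := Submodule.mem_span_singleton.1 h
  exact hvu (by rw [P.smul_right, hve, mul_zero])

section Fixed

variable (R : Rich P ρ) {B : Subgroup G} (hB : Fits D ρ B) {W : Submodule F V} (hTS : P.IsTS W) (hBW : B ≤ stV ρ W)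

include hB hBW in
theorem moved_mem {g : G} {i : ℕ} (hi : i ≤ m) (hg : g ∈ layer ρ (D.E i)) {v : V} (hv : v ∈ W) :
    (ρ g : V ≃ₗ[F] V) v - v ∈ W :=
  W.sub_mem ((hBW ((hB i hi).2 hg) v).1 hv) hv

include R hB hTS hBW in
/-- A fixed subspace contains the base point. -/
theorem e0_mem (hm : 0 < m) (hl : Line ρ ∨ 2 ≤ m) (hW : W ≠ ⊥) : D.e ⟨0, hm⟩ ∈ W := by
  set e := D.e ⟨0, hm⟩ with he
  have heE : e ∈ D.E 1 := D.e_mem_E Nat.one_pos
  have hE : ∀ u, P.β e u = 0 → ∀ w ∈ D.E 1, P.β w u = 0 := fun u hu w hw => by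
    refine D.β_E_perp hw fun a ha => ?_
    rw [show a = ⟨0, hm⟩ from Fin.ext (by simp; omega)]; exact hu
  have hcase : ∀ v ∈ W, v ≠ 0 → P.β v e = 0 → e ∈ W := by
    intro v hv hv0 hve
    by_cases hv1 : v ∈ D.E 1
    · rw [E_one hm] at hv1
      obtain ⟨k, rfl⟩ := Submodule.mem_span_singleton.1 hv1
      have hk : k ≠ 0 := fun h => hv0 (by rw [h, zero_smul])
      simpa [smul_smul, inv_mul_cancel₀ hk] using W.smul_mem k⁻¹ hv
    obtain ⟨u, hue, hvu⟩ : ∃ u, P.β u e = 0 ∧ P.β v u ≠ 0 := by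
      by_contra hno
      push Not at hno
      refine hv1 (D.mem_E_of_perp (hTS.1 v hv) (fun j => ?_) fun j hj => ?_)
      · rcases eq_or_ne j ⟨0, hm⟩ with rfl | hj
        · exact hve
        · exact hno _ (D.frame.ee j _)
      · refine hno _ ?_
        rw [he, D.frame.fe, if_neg (fun h => by rw [h] at hj; simp at hj)]
    obtain ⟨g, a, b, c, ha, -, hg⟩ := exists_root R (e_ne_zero _) (D.frame.Ne _) hue (notMem_span hve hvu)
    have := moved_mem hB hBW (by omega : 1 ≤ m)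
      (root_mem heE (D.isTS_E 1) (hE u (P.zero_comm hue)) hg) hv
    rw [hg, hve] at this
    simp only [mul_zero, zero_smul, add_zero] at this
    exact (Submodule.smul_mem_iff W (mul_ne_zero ha hvu)).1 this
  obtain ⟨v, hv, hv0⟩ := Submodule.exists_mem_ne_zero_of_ne_bot hW
  by_cases hve : P.β v e = 0
  · exact hcase v hv hv0 hve
  by_cases hm2 : 2 ≤ m
  · set u := D.e ⟨1, hm2⟩
    have hue : P.β u e = 0 := D.frame.ee _ _
    obtain ⟨g, a, b, c, -, hb, hg⟩ := exists_root R (e_ne_zero _) (D.frame.Ne _) hue (fun h => by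
      rw [← E_one hm] at h
      exact e_notMem (by simp) h)
    set d := (ρ g : V ≃ₗ[F] V) v - v with hd
    refine hcase d (moved_mem hB hBW (by omega : 1 ≤ m)
      (root_mem heE (D.isTS_E 1) (hE u (P.zero_comm hue)) hg) hv) (fun h => ?_) ?_
    · have h1 := congrArg (P.βl (D.f ⟨1, hm2⟩)) h
      rw [hd, hg] at h1
      simp only [he] at hve
      simp [u, P.add_left, P.smul_left, P.zero_left, D.frame.ef, hb, hve] at h1
    · rw [hd, hg, he]
      simp [u, P.add_left, P.smul_left, D.frame.ee]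
  · obtain ⟨g, c, hc, hg⟩ := (hl.resolve_right hm2) e (e_ne_zero _) (D.frame.Ne _)
    have hgl : g ∈ layer ρ (D.E 1) := ⟨fun w hw => by rw [hg, D.E_βe hw]; simp, fun x hx => by
      rw [hg, hx e heE]; simp⟩
    have := moved_mem hB hBW (by omega : 1 ≤ m) hgl hv
    rw [hg, add_sub_cancel_left] at this
    exact (Submodule.smul_mem_iff W (mul_ne_zero hc hve)).1 this

include R hB hTS hBW in
/-- A fixed subspace that is not the base point contains the base line. -/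
theorem E2_le (hm : 2 ≤ m) (hl : Line ρ ∨ 3 ≤ m) (h0 : D.e ⟨0, by omega⟩ ∈ W) (hW : ¬ W ≤ D.E 1) :
    D.E 2 ≤ W := by
  set z : Fin m := ⟨0, by omega⟩ with hz
  set o : Fin m := ⟨1, hm⟩ with ho
  have hzo : z ≠ o := fun h => by simp [hz, ho] at h
  refine E_two_le hm h0 ?_
  have hE : ∀ u, P.β (D.e z) u = 0 → P.β (D.e o) u = 0 → ∀ w ∈ D.E 2, P.β w u = 0 := fun u h1 h2 w hw => by
    refine D.β_E_perp hw fun a ha => ?_
    rcases (show (a : ℕ) = 0 ∨ (a : ℕ) = 1 by omega) with h | h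
    · rw [show a = z from Fin.ext h]; exact h1
    · rw [show a = o from Fin.ext h]; exact h2
  have hoE : D.e o ∈ D.E 2 := D.e_mem_E (show (o : ℕ) < 2 by simp [ho])
  have hcase : ∀ v ∈ W, v ∉ D.E 1 → P.β v (D.e o) = 0 → D.e o ∈ W := by
    intro v hv hv1 hvo
    have hvz : P.β v (D.e z) = 0 := hTS.2 v hv _ h0
    by_cases hv2 : v ∈ D.E 2
    · set k := P.β v (D.f o) with hk
      have h1 : v - k • D.e o ∈ D.E 1 := D.mem_E_perp (Submodule.sub_mem _ hv2 (Submodule.smul_mem _ _ hoE)) hm (by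
        rw [P.sub_left, P.smul_left, ← ho, D.frame.ef, if_pos rfl, mul_one, sub_self])
      have hk0 : k ≠ 0 := fun h => hv1 (by rwa [h, zero_smul, sub_zero] at h1)
      have h2 := W.sub_mem hv (E_le (by omega : 0 < m) h0 h1)
      rw [sub_sub_cancel] at h2
      simpa [smul_smul, inv_mul_cancel₀ hk0] using W.smul_mem k⁻¹ h2
    obtain ⟨u, huz, huo, hvu⟩ : ∃ u, P.β u (D.e z) = 0 ∧ P.β u (D.e o) = 0 ∧ P.β v u ≠ 0 := by
      by_contra hno
      push Not at hno
      refine hv2 (D.mem_E_of_perp (hTS.1 v hv) (fun j => hno _ (D.frame.ee j z) (D.frame.ee j o)) fun j hj => ?_)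
      exact hno _ (by rw [D.frame.fe, if_neg (fun h => by rw [h] at hj; simp [hz] at hj)])
        (by rw [D.frame.fe, if_neg (fun h => by rw [h] at hj; simp [ho] at hj)])
    obtain ⟨g, a, b, c, ha, -, hg⟩ := exists_root R (e_ne_zero o) (D.frame.Ne o) huo (notMem_span hvo hvu)
    have := moved_mem hB hBW hm (root_mem hoE (D.isTS_E 2) (hE u (P.zero_comm huz) (P.zero_comm huo)) hg) hv
    rw [hg, hvo] at this
    simp only [mul_zero, zero_smul, add_zero] at this
    exact (Submodule.smul_mem_iff W (mul_ne_zero ha hvu)).1 this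
  obtain ⟨v, hv, hv1⟩ := SetLike.not_le_iff_exists.1 hW
  by_cases hvo : P.β v (D.e o) = 0
  · exact hcase v hv hv1 hvo
  by_cases hm3 : 3 ≤ m
  · set t : Fin m := ⟨2, hm3⟩ with ht
    have hto : t ≠ o := fun h => by simp [ht, ho] at h
    obtain ⟨g, a, b, c, -, hb, hg⟩ := exists_root R (e_ne_zero o) (D.frame.Ne o) (D.frame.ee t o) (fun h => by
      obtain ⟨k, hk⟩ := Submodule.mem_span_singleton.1 h
      have := congrArg (P.βl (D.f t)) hk
      simp [P.smul_left, D.frame.ef, hto.symm] at this)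
    set d := (ρ g : V ≃ₗ[F] V) v - v with hd
    refine hcase d (moved_mem hB hBW hm
      (root_mem hoE (D.isTS_E 2) (hE _ (D.frame.ee z t) (D.frame.ee o t)) hg) hv) (fun h => ?_) ?_
    · have h1 := D.E_βf h (j := t) (by simp [ht])
      rw [hd, hg] at h1
      simp [P.add_left, P.smul_left, D.frame.ef, hto.symm, hb, hvo] at h1
    · rw [hd, hg]
      simp [P.add_left, P.smul_left, D.frame.ee]
  · obtain ⟨g, c, hc, hg⟩ := (hl.resolve_right hm3) (D.e o) (e_ne_zero o) (D.frame.Ne o)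
    have hgl : g ∈ layer ρ (D.E 2) := ⟨fun w hw => by rw [hg, D.E_βe hw]; simp, fun x hx => by
      rw [hg, hx _ hoE]; simp⟩
    have := moved_mem hB hBW hm hgl hv
    rw [hg, add_sub_cancel_left] at this
    exact (Submodule.smul_mem_iff W (mul_ne_zero hc hvo)).1 this

include hB hTS hBW in
/-- With long root elements a fixed subspace lies in the base flag. -/
theorem le_E (hl : Line ρ) : W ≤ D.E m := by
  intro v hv
  refine D.mem_E_of_perp (hTS.1 v hv) (fun j => ?_) fun j hj => absurd j.isLt (not_lt.2 hj)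
  by_contra h
  obtain ⟨g, c, hc, hg⟩ := hl (D.e j) (e_ne_zero j) (D.frame.Ne j)
  have hgl : g ∈ layer ρ (D.E m) := ⟨fun w hw => by rw [hg, D.E_βe hw]; simp, fun x hx => by
    rw [hg, hx _ (D.e_mem_E j.isLt)]; simp⟩
  have := moved_mem hB hBW le_rfl hgl hv
  rw [hg, add_sub_cancel_left] at this
  have hj : D.e j ∈ W := by
    exact (Submodule.smul_mem_iff W (mul_ne_zero hc h)).1 this
  exact h (hTS.2 v hv _ hj)

end Fixed

section Movers

variable (R : Rich P ρ)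

include R in
theorem exists_move_zero (hm : 0 < m) (hl : Line ρ ∨ 2 ≤ m) :
    ∃ g, (ρ g : V ≃ₗ[F] V) (D.e ⟨0, hm⟩) ∉ D.E 1 ∧ ∀ h2 : 1 < m, g ∈ stV ρ (D.E 2) := by
  set z : Fin m := ⟨0, hm⟩ with hz
  by_cases hm2 : 2 ≤ m
  · set o : Fin m := ⟨1, hm2⟩ with ho
    have hzo : z ≠ o := fun h => by simp [hz, ho] at h
    obtain ⟨g, a, b, c, ha, -, hg⟩ := exists_root R (e_ne_zero o) (D.frame.Ne o) (u := D.f z)
      (by rw [D.frame.fe, if_neg hzo]) (notMem_span (v := D.e z) (D.frame.ee z o) (by rw [D.frame.ef, if_pos rfl]; exact one_ne_zero))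
    have hoE : D.e o ∈ D.E 2 := D.e_mem_E (show (o : ℕ) < 2 by simp [ho])
    have hgz : (ρ g : V ≃ₗ[F] V) (D.e z) = D.e z + a • D.e o := by
      rw [← sub_eq_iff_eq_add', hg]; simp [D.frame.ef, D.frame.ee]
    have hgo : (ρ g : V ≃ₗ[F] V) (D.e o) = D.e o := by
      rw [← sub_eq_zero, hg]; simp [D.frame.ef, D.frame.ee, hzo.symm]
    refine ⟨g, fun h => ?_, fun _ => mem_stV fun v hv => ?_⟩
    · have := D.E_βf h (j := o) (by simp [ho])
      rw [hgz] at this
      simp [P.add_left, P.smul_left, D.frame.ef, hzo, ha] at this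
    · refine (E_two_le (W := (D.E 2).comap ((ρ g : V ≃ₗ[F] V) : V →ₗ[F] V)) hm2 ?_ ?_) hv
      · show (ρ g : V ≃ₗ[F] V) (D.e z) ∈ D.E 2
        rw [hgz]
        exact Submodule.add_mem _ (D.e_mem_E (show (z : ℕ) < 2 by simp [hz])) (Submodule.smul_mem _ _ hoE)
      · show (ρ g : V ≃ₗ[F] V) (D.e o) ∈ D.E 2
        rw [hgo]; exact hoE
  · obtain ⟨g, c, hc, hg⟩ := (hl.resolve_right hm2) (D.f z) (fun h => by
      have := D.frame.ef z z
      rw [if_pos rfl, h, P.zero_right] at this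
      exact zero_ne_one this) (D.frame.Nf z)
    refine ⟨g, fun h => ?_, fun h2 => absurd h2 (by omega)⟩
    have := D.E_βe h z
    rw [hg] at this
    simp [P.add_left, P.smul_left, D.frame.ee, D.frame.ef, D.frame.fe, hc, P.ε_ne] at this

include R in
theorem exists_move_one (hm : 2 ≤ m) : ∃ g, g ∉ stV ρ (D.E 2) := by
  set z : Fin m := ⟨0, by omega⟩ with hz
  set o : Fin m := ⟨1, hm⟩ with ho
  have hzo : z ≠ o := fun h => by simp [hz, ho] at h
  obtain ⟨g, a, b, c, -, hb, hg⟩ := exists_root R (e := D.f o) (u := D.f z) (fun h => by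
    have := D.frame.ef o o
    rw [if_pos rfl, h, P.zero_right] at this
    exact zero_ne_one this) (D.frame.Nf o) (D.frame.ff z o)
    (notMem_span (v := D.e z) (by rw [D.frame.ef, if_neg hzo]) (by rw [D.frame.ef, if_pos rfl]; exact one_ne_zero))
  refine ⟨g, fun h => ?_⟩
  have hoE : D.e o ∈ D.E 2 := D.e_mem_E (show (o : ℕ) < 2 by simp [ho])
  have h1 := D.E_βe (Submodule.sub_mem _ ((h _).1 hoE) hoE) z
  rw [hg] at h1
  simp [P.add_left, P.smul_left, D.frame.ef, D.frame.fe, D.frame.ff, hzo, hzo.symm, hb, P.ε_ne] at h1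

include R in
/-- A totally singular subspace containing the base line is moved by an element fixing the base point. -/
theorem exists_move_out (hm : 2 ≤ m) (hl : Line ρ ∨ 3 ≤ m) {W : Submodule F V} (hTS : P.IsTS W)
    (ho : D.e ⟨1, hm⟩ ∈ W) : ∃ g ∈ stV ρ (D.E 1), g ∉ stV ρ W := by
  set z : Fin m := ⟨0, by omega⟩ with hz
  set o : Fin m := ⟨1, hm⟩ with hoo
  have hzo : z ≠ o := fun h => by simp [hz, hoo] at h
  have hfix : ∀ g : G, (ρ g : V ≃ₗ[F] V) (D.e z) = D.e z → g ∈ stV ρ (D.E 1) := fun g hg => mem_stV fun v hv => by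
    rw [E_one (by omega : 0 < m)] at hv ⊢
    obtain ⟨k, rfl⟩ := Submodule.mem_span_singleton.1 hv
    rw [map_smul, ← hz, hg]
    exact Submodule.smul_mem _ _ (Submodule.mem_span_singleton_self _)
  have hne : ∀ j, D.f j ≠ 0 := fun j h => by
    have := D.frame.ef j j
    rw [if_pos rfl, h, P.zero_right] at this
    exact zero_ne_one this
  by_contra hno
  push Not at hno
  have hmove : ∀ g : G, (ρ g : V ≃ₗ[F] V) (D.e z) = D.e z → (ρ g : V ≃ₗ[F] V) (D.e o) - D.e o ∈ W := fun g hg =>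
    W.sub_mem ((hno g (hfix g hg) _).1 ho) ho
  by_cases hm3 : 3 ≤ m
  · set t : Fin m := ⟨2, hm3⟩ with ht
    have hto : t ≠ o := fun h => by simp [ht, hoo] at h
    have htz : t ≠ z := fun h => by simp [ht, hz] at h
    have hnot : ∀ x : V, P.β (D.e o) x = 0 → D.f o ∉ Submodule.span F {x} := fun x hx =>
      notMem_span (v := D.e o) hx (by rw [D.frame.ef, if_pos rfl]; exact one_ne_zero)
    obtain ⟨g, a, b, c, ha, -, hg⟩ := exists_root R (u := D.f o) (hne t) (D.frame.Nf t) (D.frame.ff o t)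
      (hnot _ (by rw [D.frame.ef, if_neg hto.symm]))
    have h1 := hmove g (by rw [← sub_eq_zero, hg]; simp [D.frame.ef, hzo, htz.symm])
    rw [hg] at h1
    simp only [D.frame.ef, if_pos, hto.symm, if_false, mul_one, mul_zero, zero_smul, add_zero] at h1
    obtain ⟨g', a', b', c', ha', -, hg'⟩ := exists_root R (u := D.f o) (e_ne_zero t) (D.frame.Ne t)
      (by rw [D.frame.fe, if_neg hto.symm]) (hnot _ (D.frame.ee o t))
    have h2 := hmove g' (by rw [← sub_eq_zero, hg']; simp [D.frame.ef, D.frame.ee, hzo])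
    rw [hg'] at h2
    simp only [D.frame.ef, D.frame.ee, if_pos, mul_one, mul_zero, zero_smul, add_zero] at h2
    have h3 := hTS.2 _ h2 _ h1
    simp [P.smul_left, P.smul_right, D.frame.ef, ha, ha'] at h3
  · obtain ⟨g, c, hc, hg⟩ := (hl.resolve_right hm3) (D.f o) (hne o) (D.frame.Nf o)
    have h1 := hmove g (by rw [hg]; simp [D.frame.ef, hzo])
    rw [hg, D.frame.ef, if_pos rfl, mul_one, add_sub_cancel_left] at h1
    have h3 := hTS.2 _ ho _ h1
    simp [P.smul_right, D.frame.ef, hc] at h3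

end Movers

section Image

variable (S : Semisim P)

/-- The image of a subspace under a semilinear similitude. -/
def imgS (W : Submodule F V) : Submodule F V where
  carrier := S.g '' W
  add_mem' := by
    rintro _ _ ⟨a, ha, rfl⟩ ⟨b, hb, rfl⟩
    exact ⟨a + b, W.add_mem ha hb, map_add _ _ _⟩
  zero_mem' := ⟨0, W.zero_mem, map_zero _⟩
  smul_mem' := by
    rintro c _ ⟨a, ha, rfl⟩
    exact ⟨S.s.symm c • a, W.smul_mem _ ha, by rw [S.map_smul, RingEquiv.apply_symm_apply]⟩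

theorem card_imgS (W : Submodule F V) : Nat.card (imgS S W) = Nat.card W :=
  Nat.card_image_of_injective S.inj (W : Set V)

theorem isTS_imgS {W : Submodule F V} (h : P.IsTS W) : P.IsTS (imgS S W) := by
  refine ⟨?_, ?_⟩
  · rintro _ ⟨a, ha, rfl⟩
    rw [S.map_N, h.1 a ha, map_zero, mul_zero]
  · rintro _ ⟨a, ha, rfl⟩ _ ⟨b, hb, rfl⟩
    rw [S.map_β, h.2 a ha b hb, map_zero, mul_zero]

theorem eq_of_le_card {W W' : Submodule F V} (h : W ≤ W') (hc : Nat.card W' ≤ Nat.card W) : W = W' :=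
  SetLike.coe_injective (Set.eq_of_subset_of_ncard_le h (by
    rw [← Nat.card_coe_set_eq, ← Nat.card_coe_set_eq]; exact hc) (Set.toFinite _))

end Image

section Overgroups

variable (H : Good D p ρ) (R : Rich P ρ) {K : Type*} [Group K] [Finite K] (f : G →* K) (hf : Function.Surjective f)
  (hcen : f.ker ≤ Subgroup.center G) (hsc : ∀ z ∈ f.ker, ∃ a : F, ∀ v, (ρ z : V ≃ₗ[F] V) v = a • v)
  (hK : Cfsg.IsChevSimple p K)

include hsc in
theorem mem_map_stV {W : Submodule F V} {g : G} : f g ∈ (stV ρ W).map f ↔ g ∈ stV ρ W := by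
  refine ⟨fun ⟨h, hh, e⟩ => ?_, fun h => ⟨g, h, rfl⟩⟩
  obtain ⟨a, ha⟩ := hsc (h⁻¹ * g) (by rw [MonoidHom.mem_ker, map_mul, map_inv, e, inv_mul_cancel])
  simpa using mul_mem hh (scalar_mem_stV (W := W) ha)

include hf hcen hsc hK R in
/-- A proper overgroup fixes a totally singular subspace. -/
theorem exists_le_stV {B : Subgroup G} (hidx : ¬ p ∣ B.index) {M : Subgroup K} (hBM : B.map f ≤ M) (hM : M ≠ ⊤) :
    ∃ W : Submodule F V, W ≠ ⊥ ∧ P.IsTS W ∧ B ≤ stV ρ W ∧ M ≤ (stV ρ W).map f := by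
  obtain ⟨E, hE, hEk, hME⟩ := exists_normalized f hf hcen hK
    (fun h => hidx (h.trans (Subgroup.index_map_dvd _ hf))) hBM hM
  obtain ⟨W, hW, hTS, hst⟩ := exists_stable R hE fun h => hEk (h ▸ bot_le)
  have hle : M.comap f ≤ stV ρ W := fun g hg => mem_stV fun v hv => hst g (hME hg) v hv
  refine ⟨W, hW, hTS, fun b hb => hle (hBM ⟨b, hb, rfl⟩), fun x hx => ?_⟩
  obtain ⟨g, rfl⟩ := hf x
  exact ⟨g, hle hx, rfl⟩

include hf hsc R in
theorem base_map (hm : 0 < m) (hl : Line ρ ∨ 2 ≤ m) {B : Subgroup G} (hBp : IsPGroup p B) (hidx : ¬ p ∣ B.index)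
    (hB : Fits D ρ B) : Base p (B.map f) := by
  refine ⟨hBp.map f, fun h => hidx (h.trans (Subgroup.index_map_dvd _ hf)), fun h => ?_⟩
  haveI := Subgroup.normalizer_eq_top_iff.1 h
  obtain ⟨g, hg, -⟩ := exists_move_zero R (D := D) hm hl
  apply hg
  set W := (D.E 1).comap ((ρ g : V ≃ₗ[F] V) : V →ₗ[F] V) with hW
  have hTS : P.IsTS W := ⟨fun x hx => by rw [← P.iso_N (ρ g).2]; exact (D.isTS_E 1).1 _ hx,
    fun x hx y hy => by rw [← P.iso_β (ρ g).2]; exact (D.isTS_E 1).2 _ hx _ hy⟩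
  have hne : W ≠ ⊥ := fun h0 => e_ne_zero (⟨0, hm⟩ : Fin m) (by
    have : (ρ g⁻¹ : V ≃ₗ[F] V) (D.e ⟨0, hm⟩) ∈ W := by
      show (ρ g : V ≃ₗ[F] V) ((ρ g⁻¹ : V ≃ₗ[F] V) (D.e ⟨0, hm⟩)) ∈ D.E 1
      rw [show (ρ g : V ≃ₗ[F] V) ((ρ g⁻¹ : V ≃ₗ[F] V) (D.e ⟨0, hm⟩)) = D.e ⟨0, hm⟩ by simp]
      exact D.e_mem_E Nat.one_pos
    rw [h0, Submodule.mem_bot] at this
    simpa using this)
  refine e0_mem R hB hTS (fun b hb => mem_stV fun v hv => ?_) hm hl hne
  have h1 := (inferInstance : (B.map f).Normal).conj_mem _ ⟨b, hb, rfl⟩ (f g)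
  rw [← map_inv, ← map_mul, ← map_mul] at h1
  have h2 := (mem_map_stV f hsc).1 (Subgroup.map_mono (hB 1 (by omega)).1 h1) ((ρ g : V ≃ₗ[F] V) v)
  show (ρ g : V ≃ₗ[F] V) ((ρ b : V ≃ₗ[F] V) v) ∈ D.E 1
  simpa using h2.1 hv

include hf hsc R in
theorem stV_map_ne_top (hm : 0 < m) (hl : Line ρ ∨ 2 ≤ m) :
    (stV ρ (D.E 1)).map f ≠ ⊤ ∧ (2 ≤ m → (stV ρ (D.E 2)).map f ≠ ⊤) := by
  refine ⟨fun h => ?_, fun h2 h => ?_⟩
  · obtain ⟨g, hg, -⟩ := exists_move_zero R (D := D) hm hl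
    have hg' : g ∈ stV ρ (D.E 1) := (mem_map_stV f hsc).1 (h ▸ Subgroup.mem_top _)
    exact hg ((hg' _).1 (D.e_mem_E Nat.one_pos))
  · obtain ⟨g, hg⟩ := exists_move_one R (D := D) h2
    exact hg ((mem_map_stV f hsc).1 (h ▸ Subgroup.mem_top _))

include hf hcen hsc hK R in
theorem stV_sup_eq_top (hm : 2 ≤ m) (hl : Line ρ ∨ 3 ≤ m) {B : Subgroup G} (hidx : ¬ p ∣ B.index)
    (hB : Fits D ρ B) : (stV ρ (D.E 1)).map f ⊔ (stV ρ (D.E 2)).map f = ⊤ := by
  by_contra hne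
  obtain ⟨W, hW, hTS, hBW, hle⟩ := exists_le_stV R f hf hcen hsc hK hidx
    ((Subgroup.map_mono (hB 1 (by omega)).1).trans le_sup_left) hne
  have h0 := e0_mem R hB hTS hBW (by omega : 0 < m) (Or.inr hm) hW
  obtain ⟨g, hg, hg2⟩ := exists_move_zero R (D := D) (by omega : 0 < m) (Or.inr hm)
  have hgW : g ∈ stV ρ W := (mem_map_stV f hsc).1 (hle (Subgroup.mem_sup_right ⟨g, hg2 hm, rfl⟩))
  have hE := E2_le R hB hTS hBW hm hl h0 fun h => hg (h ((hgW _).1 h0))
  obtain ⟨g', hg', hgW'⟩ := exists_move_out R hm hl hTS (hE (D.e_mem_E (show 1 < 2 by omega)))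
  exact hgW' ((mem_map_stV f hsc).1 (hle (Subgroup.mem_sup_left ⟨g', hg', rfl⟩)))

include H hf hcen hsc hK R in
/-- Rank at least two, every automorphism semilinear. -/
theorem split_polar (hm : 2 ≤ m) (hl : Line ρ ∨ 3 ≤ m)
    (hdec : ∀ θ : MulAut K, ∃ S : Semisim P, ∀ x : G, ∃ x' : G, θ (f x) = f x' ∧
      ∀ v, (ρ x' : V ≃ₗ[F] V) (S.g v) = S.g ((ρ x : V ≃ₗ[F] V) v)) :
    Split p K := by
  obtain ⟨P₀⟩ : Nonempty (Sylow p H.borel) := inferInstance
  set B := (P₀ : Subgroup H.borel).map H.borel.subtype with hBdef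
  have hidx : ¬ p ∣ B.index := by
    rw [hBdef, Subgroup.index_map_subtype]
    intro hd
    rcases hp.out.dvd_mul.1 hd with h | h
    · exact P₀.not_dvd_index h
    · exact H.index_borel_coprime h
  have hB := fits_of_index H R (Subgroup.map_subtype_le _) hidx (B := B)
  refine ⟨B.map f, (stV ρ (D.E 1)).map f, (stV ρ (D.E 2)).map f,
    base_map R f hf hsc (by omega) (Or.inr hm) (P₀.2.map _) hidx hB,
    Subgroup.map_mono (hB 1 (by omega)).1, Subgroup.map_mono (hB 2 hm).1,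
    (stV_map_ne_top R f hf hsc (by omega) (Or.inr hm)).1, (stV_map_ne_top R f hf hsc (by omega) (Or.inr hm)).2 hm,
    stV_sup_eq_top R f hf hcen hsc hK hm hl hidx hB, fun θ hθ => ?_⟩
  obtain ⟨S, hS⟩ := hdec θ
  have hmap : ∀ W : Submodule F V, ((stV ρ W).map f).map θ.toMonoidHom ≤ (stV ρ (imgS S W)).map f := by
    rintro W _ ⟨_, ⟨x, hx, rfl⟩, rfl⟩
    obtain ⟨x', h1, h2⟩ := hS x
    refine ⟨x', mem_stV ?_, h1.symm⟩
    rintro _ ⟨a, ha, rfl⟩
    exact ⟨_, (hx a).1 ha, (h2 a).symm⟩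
  have hfix : ∀ i, i ≤ m → B ≤ stV ρ (imgS S (D.E i)) := fun i hi b hb =>
    (mem_map_stV f hsc).1 (hmap _ (Subgroup.map_mono (Subgroup.map_mono (hB i hi).1)
      (hθ.2.symm.le ⟨b, hb, rfl⟩)))
  have hne : ∀ i, 0 < i → i ≤ m → imgS S (D.E i) ≠ ⊥ := fun i hi _ h => e_ne_zero (D := D) ⟨0, by omega⟩ (S.inj (by
    have : S.g (D.e ⟨0, by omega⟩) ∈ imgS S (D.E i) := ⟨_, D.e_mem_E hi, rfl⟩
    rw [h, Submodule.mem_bot] at this
    rw [this, map_zero]))
  have himg : ∀ i, i = 1 ∨ i = 2 → imgS S (D.E i) = D.E i := by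
    intro i hi
    have h0 := e0_mem R hB (isTS_imgS S (D.isTS_E i)) (hfix i (by omega)) (by omega : 0 < m) (Or.inr hm)
      (hne i (by omega) (by omega))
    refine (eq_of_le_card ?_ (card_imgS S _).le).symm
    rcases hi with rfl | rfl
    · exact E_le (by omega) h0
    · refine E2_le R hB (isTS_imgS S (D.isTS_E 2)) (hfix 2 hm) hm hl h0 fun h => ?_
      have h1 := Nat.card_le_card_of_injective (Submodule.inclusion h) (Submodule.inclusion_injective h)
      rw [card_imgS] at h1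
      exact e_notMem (D := D) (j := ⟨1, hm⟩) le_rfl
        ((eq_of_le_card (D.E_mono one_le_two) h1).symm ▸ D.e_mem_E (show 1 < 2 by omega))
  have heq : ∀ i, i = 1 ∨ i = 2 → ((stV ρ (D.E i)).map f).map θ.toMonoidHom = (stV ρ (D.E i)).map f := fun i hi =>
    Subgroup.eq_of_le_of_card_ge ((hmap _).trans (by rw [himg i hi]))
      (Nat.card_congr (((stV ρ (D.E i)).map f).equivMapOfInjective _ θ.injective).toEquiv).le
  exact ⟨heq 1 (Or.inl rfl), heq 2 (Or.inr rfl)⟩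

include H R in
/-- With all unitriangular isometries present they form a Sylow subgroup normal in the Borel subgroup. -/
theorem exists_unitri (hrange : ∀ u ∈ D.U, u ∈ ρ.range) :
    ∃ B : Subgroup G, IsPGroup p B ∧ ¬ p ∣ B.index ∧ Fits D ρ B ∧ H.borel ≤ Subgroup.normalizer (B : Set G) := by
  set B := D.U.comap ρ with hB
  have hBp : IsPGroup p B := (D.isPGroup_U p).comap_of_injective ρ R.inj
  have hcard : Nat.card B = p ^ (Nat.card G).factorization p := by
    have hmap : B.map ρ = D.U := Subgroup.map_comap_eq_self fun u hu => hrange u hu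
    rw [← H.card_opp_eq, ← D.card_U, ← hmap]
    exact Nat.card_congr (B.equivMapOfInjective ρ R.inj).toEquiv
  have hidx : ¬ p ∣ B.index := fun h => by
    have h1 : p ^ ((Nat.card G).factorization p + 1) ∣ Nat.card G := by
      refine dvd_trans ?_ (B.card_mul_index).dvd
      rw [pow_succ, hcard]
      exact Nat.mul_dvd_mul_left _ h
    exact Nat.pow_succ_factorization_not_dvd Nat.card_pos.ne' hp.out h1
  refine ⟨B, hBp, hidx, fits_of_index H R (fun b hb => D.U_fix hb) hidx, fun g hg => ?_⟩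
  have key : ∀ g ∈ H.borel, ∀ u ∈ B, g * u * g⁻¹ ∈ B := by
    intro g hg u hu
    have hE : ∀ i ≤ m, ∀ {y}, y ∈ D.E i → (ρ g : V ≃ₗ[F] V) y ∈ D.E i ∧ (ρ g⁻¹ : V ≃ₗ[F] V) y ∈ D.E i :=
      fun i hi y hy => ⟨InnerFix.borel_stab H hg hi hy, InnerFix.borel_stab H (inv_mem hg) hi hy⟩
    have hval : ∀ x, (ρ (g * u * g⁻¹) : V ≃ₗ[F] V) x - x =
        (ρ g : V ≃ₗ[F] V) ((ρ u : V ≃ₗ[F] V) ((ρ g⁻¹ : V ≃ₗ[F] V) x) - (ρ g⁻¹ : V ≃ₗ[F] V) x) := fun x => by
      simp [map_sub]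
    refine ⟨fun j => ?_, fun x hx => ?_⟩
    · rw [hval]
      refine (hE _ j.isLt.le ?_).1
      have hy := (hE _ j.isLt (D.e_mem_E (show (j : ℕ) < (j : ℕ) + 1 by omega))).2
      revert hy
      generalize (ρ g⁻¹ : V ≃ₗ[F] V) (D.e j) = y
      intro hy
      induction hy using Submodule.span_induction with
      | mem a ha =>
        obtain ⟨l, hl, rfl⟩ := ha
        exact D.E_mono (Nat.lt_succ_iff.1 hl) (hu.1 l)
      | zero => simp
      | add a b _ _ i1 i2 => rw [map_add, add_sub_add_comm]; exact Submodule.add_mem _ i1 i2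
      | smul c a _ i1 => rw [map_smul, ← smul_sub]; exact Submodule.smul_mem _ _ i1
    · rw [hval]
      refine (hE m le_rfl (hu.2 _ fun j => ?_)).1
      rw [← P.iso_β (ρ g).2, show (ρ g : V ≃ₗ[F] V) ((ρ g⁻¹ : V ≃ₗ[F] V) x) = x by simp]
      exact P.zero_comm (D.β_E_perp (hE m le_rfl (D.e_mem_E j.isLt)).1 fun a _ => P.zero_comm (hx a))
  refine Subgroup.mem_normalizer_iff.2 fun x => ⟨key g hg x, fun hx => ?_⟩
  have := key g⁻¹ (inv_mem hg) _ hx
  simpa [mul_assoc] using this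

include H hf hcen hsc hK R in
/-- Rank one. -/
theorem rankOne_polar (hm : m = 1) (hl : Line ρ) (hrange : ∀ u ∈ D.U, u ∈ ρ.range) : RankOne p K := by
  obtain ⟨B, hBp, hidx, hB, hn⟩ := exists_unitri H R hrange
  refine ⟨B.map f, base_map R f hf hsc (by omega) (Or.inl hl) hBp hidx hB, fun M hM => ?_⟩
  refine (em (M = ⊤)).elim Or.inr fun hM' => Or.inl (le_antisymm (fun x hx => ?_) hM)
  obtain ⟨W, hW, hTS, hBW, hle⟩ := exists_le_stV R f hf hcen hsc hK hidx (Subgroup.le_normalizer.trans hM) hM'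
  have hWE : W = D.E m := le_antisymm (le_E hB hTS hBW hl) (by
    subst hm; exact E_le Nat.one_pos (e0_mem R hB hTS hBW Nat.one_pos (Or.inl hl) hW))
  obtain ⟨g, hg, rfl⟩ := hle hx
  have hgB : g ∈ H.borel := H.mem_borel.2 (Ch.ext_of_le fun i => by
    rw [Ch.smul_W, D.c₀_W]
    rintro _ ⟨y, hy, rfl⟩
    rcases (show (i : ℕ) = 0 ∨ (i : ℕ) = m by omega) with h | h
    · rw [h, D.E_zero] at hy ⊢
      rw [show y = 0 from hy, map_zero]
      exact Submodule.zero_mem _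
    · rw [h, ← hWE] at hy ⊢
      exact (hg y).1 hy)
  exact Subgroup.le_normalizer_map f ⟨g, hn hgB, rfl⟩

include H hf hcen hsc hK R in
/-- Rank two. -/
theorem pair_polar (hm : m = 2) (hl : Line ρ) (hrange : ∀ u ∈ D.U, u ∈ ρ.range) : Pair p K := by
  obtain ⟨B, hBp, hidx, hB, hn⟩ := exists_unitri H R hrange
  refine ⟨B.map f, (stV ρ (D.E 1)).map f, (stV ρ (D.E 2)).map f,
    base_map R f hf hsc (by omega) (Or.inl hl) hBp hidx hB,
    Subgroup.map_mono (hB 1 (by omega)).1, Subgroup.map_mono (hB 2 (by omega)).1,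
    (stV_map_ne_top R f hf hsc (by omega) (Or.inl hl)).1, (stV_map_ne_top R f hf hsc (by omega) (Or.inl hl)).2 (by omega),
    stV_sup_eq_top R f hf hcen hsc hK (by omega) (Or.inl hl) hidx hB, fun x hx => ?_, fun M hUM hM => ?_⟩
  · obtain ⟨g, rfl⟩ := hf x
    have h1 := (mem_map_stV f hsc).1 hx.1
    have h2 := (mem_map_stV f hsc).1 hx.2
    have hgB : g ∈ H.borel := H.mem_borel.2 (Ch.ext_of_le fun i => by
      rw [Ch.smul_W, D.c₀_W]
      rintro _ ⟨y, hy, rfl⟩
      rcases (show (i : ℕ) = 0 ∨ (i : ℕ) = 1 ∨ (i : ℕ) = 2 by omega) with h | h | h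
      · rw [h, D.E_zero] at hy ⊢
        rw [show y = 0 from hy, map_zero]
        exact Submodule.zero_mem _
      · rw [h] at hy ⊢
        exact (h1 y).1 hy
      · rw [h] at hy ⊢
        exact (h2 y).1 hy)
    exact Subgroup.le_normalizer_map f ⟨g, hn hgB, rfl⟩
  · obtain ⟨W, hW, hTS, hBW, hle⟩ := exists_le_stV R f hf hcen hsc hK hidx hUM hM
    have h0 := e0_mem R hB hTS hBW (by omega : 0 < m) (Or.inl hl) hW
    have hWE : W ≤ D.E 2 := (le_E hB hTS hBW hl).trans (D.E_mono hm.le)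
    by_cases h1 : W ≤ D.E 1
    · exact Or.inl (by rwa [show W = D.E 1 from le_antisymm h1 (E_le (by omega) h0)] at hle)
    · exact Or.inr (by
        rwa [show W = D.E 2 from le_antisymm hWE (E2_le R hB hTS hBW (by omega) (Or.inl hl) h0 h1)] at hle)

end Overgroups

end Cfsg.Lib.DefChar.PMin
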