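import Cfsg.Agent.Lib.DefChar.PMin.BN
import Cfsg.Agent.Lib.Linear.Suzuki.Sylow
import Cfsg.Agent.Lib.DefChar.Overgroup.Suzuki
import Cfsg.Agent.Lib.DefChar.Overgroup.Small
import Mathlib.GroupTheory.SpecificGroups.Alternating.Simple

/-!
# The Suzuki groups, the linear group over eight elements, the alternating group of degree six
-/

set_option autoImplicit false
set_option linter.unusedSectionVars false
set_option maxRecDepth 100000

namespace Cfsg.Lib.DefChar.PMin

open Subgroup

section Suzuki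

open Cfsg.Lib.Linear.Suz

variable {F : Type*} [Field F] [Fintype F] {m : ℕ} (h : Params F m)
include h

theorem rankOne_suzuki [Fact (Nat.Prime 2)] : RankOne 2 ↥(Cfsg.Sz F m) := by
  haveI := isSimple h
  haveI : Finite ↥(Cfsg.Sz F m) := Nat.finite_of_card_ne_zero (by
    rw [card_Sz' h]
    have : 2 ≤ 2 ^ (2 * m + 1) := Nat.le_self_pow (by omega) 2
    exact Nat.mul_ne_zero (Nat.mul_ne_zero (by positivity) (by positivity)) (by omega))
  have hUp : IsPGroup 2 ↥(US h) := IsPGroup.of_card (n := (2 * m + 1) * 2) (by rw [card_US h, ← pow_mul])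
  have hq : ∃ r, 2 ^ (2 * m + 1) = 2 * r ∧ 1 ≤ r := ⟨2 ^ (2 * m), by rw [pow_succ]; ring, Nat.one_le_two_pow⟩
  have hindex : (US h).index = ((2 ^ (2 * m + 1)) ^ 2 + 1) * (2 ^ (2 * m + 1) - 1) := by
    have h1 := (US h).card_mul_index
    rw [card_US h, card_Sz' h, mul_assoc] at h1
    exact Nat.eq_of_mul_eq_mul_left (by positivity) h1
  obtain ⟨r, hr, hr1⟩ := hq
  have hUi : ¬ 2 ∣ (US h).index := by
    rw [hindex, hr]
    intro hd
    rcases Nat.prime_two.dvd_mul.1 hd with ⟨j, hj⟩ | ⟨j, hj⟩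
    · rw [mul_pow] at hj; omega
    · omega
  have hUne : US h ≠ ⊥ := fun hb => by
    have h1 := card_US h
    rw [hb, Subgroup.card_bot, hr] at h1
    nlinarith
  have hB : Base 2 (US h) := by
    refine ⟨hUp, hUi, fun hn => ?_⟩
    haveI := Subgroup.normalizer_eq_top_iff.1 hn
    rcases IsSimpleGroup.eq_bot_or_eq_top_of_normal (US h) inferInstance with e | e
    · exact hUne e
    · rw [e, Subgroup.index_top, hr] at hindex
      have h2 : 1 ≤ 2 * r - 1 := by omega
      nlinarith
  refine ⟨US h, hB, fun M hM => ?_⟩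
  by_cases hno : ∀ g ∈ M, g ∈ MulAction.stabilizer ↥(Cfsg.Sz F m) (Cfsg.suzukiPointInfinity F)
  · refine Or.inl (le_antisymm (fun x hx => mem_normalizer_iff.2 fun u =>
      ⟨fun hu => stab_normalizes h (hno x hx) hu, fun hu => ?_⟩) hM)
    have := stab_normalizes h (inv_mem (hno x hx)) hu
    simpa [mul_assoc] using this
  push Not at hno
  obtain ⟨g₀, hg₀, hout⟩ := hno
  obtain ⟨x₀, y₀, hs₀⟩ := (exists_bruhat h g₀).resolve_left hout
  have hUM : US h ≤ M := Subgroup.le_normalizer.trans hM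
  have hw : ∀ u ∈ US h, wS h * u * (wS h)⁻¹ ∈ M := by
    intro u hu
    set s := (uS h x₀ y₀ * wS h)⁻¹ * g₀ with hs
    have h1 : s⁻¹ * u * s ∈ US h := by simpa using stab_normalizes h (inv_mem hs₀) hu
    have h2 := mul_mem (mul_mem hg₀ (hUM h1)) (inv_mem hg₀)
    have h3 := mul_mem (mul_mem (inv_mem (hUM ⟨x₀, y₀, rfl⟩)) h2) (hUM ⟨x₀, y₀, rfl⟩)
    convert h3 using 1
    rw [hs]; group
  refine Or.inr (eq_top_of_conj hUne fun a u hu => ?_)
  rcases exists_bruhat h a with ha | ⟨x, y, ha⟩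
  · exact hUM (stab_normalizes h ha hu)
  · set s := (uS h x y * wS h)⁻¹ * a with hs
    have h3 := mul_mem (mul_mem (hUM ⟨x, y, rfl⟩) (hw _ (stab_normalizes h ha hu))) (inv_mem (hUM ⟨x, y, rfl⟩))
    convert h3 using 1
    rw [hs]; group

end Suzuki

section Counting

variable {K : Type*} [Group K] [Finite K] {p : ℕ} [Fact p.Prime]

/-- The index of the Sylow normaliser in an overgroup is `1` modulo `p`. -/
theorem relIndex_normalizer_modEq (P : Sylow p K) {M : Subgroup K} (hM : normalizer ((P : Subgroup K) : Set K) ≤ M) :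
    (normalizer ((P : Subgroup K) : Set K)).relIndex M ≡ 1 [MOD p] := by
  have hle : (P : Subgroup K) ≤ M := Subgroup.le_normalizer.trans hM
  have h1 := (P.subtype hle).card_eq_index_normalizer
  have h2 : Nat.card (Sylow p M) = (normalizer (((P : Subgroup K).subgroupOf M : Subgroup M) : Set M)).index := by
    rw [← Sylow.coe_subtype P hle]; exact h1
  rw [← Subgroup.subgroupOf_normalizer_eq hle] at h2
  show ((normalizer ((P : Subgroup K) : Set K)).subgroupOf M).index ≡ 1 [MOD p]
  rw [← h2]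
  exact card_sylow_modEq_one p M

end Counting

theorem rankOne_l28 {K : Type*} [Group K] [Finite K] {F : Type} [Field F] [Fintype F] (hF : Fintype.card F = 8)
    [Fact (Nat.Prime 3)] (e : K ≃* Matrix.ProjectiveSpecialLinearGroup (Fin 2) F) : RankOne 3 K := by
  have hK : Nat.card K = 504 := by
    have h := Cfsg.Agent.S0243.result hF 2 le_rfl (F := F)
    rw [← Nat.card_congr e.toEquiv] at h
    norm_num [Fin.prod_univ_two] at h
    omega
  have h9 : ∀ M : Subgroup K, M ≠ ⊤ → 9 ≤ M.index := fun M hne => by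
    have h := (Cfsg.Agent.S0806.result hF (by decide)).1
      (M.map e.toMonoidHom) (fun h => hne (Subgroup.map_injective e.injective (by
        rw [h, Subgroup.map_top_of_surjective _ e.surjective])))
    rw [show (M.map e.toMonoidHom).index = M.index from Subgroup.index_map_equiv M e] at h
    simpa using h
  obtain ⟨P⟩ : Nonempty (Sylow 3 K) := inferInstance
  have hP : Nat.card (P : Subgroup K) = 9 := by
    rw [P.card_eq_multiplicity, hK, show (504 : ℕ).factorization 3 = 2 by
      rw [show (504 : ℕ) = 3 ^ 2 * 56 by norm_num, Nat.factorization_mul (by norm_num) (by norm_num),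
        Finsupp.add_apply, Nat.prime_three.factorization_pow, Finsupp.single_eq_same,
        Nat.factorization_eq_zero_of_not_dvd (by norm_num : ¬ 3 ∣ 56)]]
    norm_num
  have hPi : (P : Subgroup K).index = 56 := by
    have h := (P : Subgroup K).card_mul_index
    rw [hP, hK] at h
    omega
  set N := normalizer ((P : Subgroup K) : Set K) with hN
  have hNmod : N.index ≡ 1 [MOD 3] := P.card_eq_index_normalizer ▸ card_sylow_modEq_one 3 K
  have hNdvd : N.index ∣ 56 := hPi ▸ Subgroup.index_dvd_of_le Subgroup.le_normalizer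
  have hNtop : N ≠ ⊤ := by
    intro h
    haveI := Subgroup.normalizer_eq_top_iff.1 h
    haveI := e.toEquiv.nontrivial
    have := h9 ⊥ fun hb => by
      have h2 := congrArg (fun H : Subgroup K => Nat.card H) hb
      simp only [Subgroup.card_bot, Subgroup.card_top, hK] at h2
      omega
    have := h9 (P : Subgroup K) fun hb => by rw [hb, Subgroup.card_top, hK] at hP; omega
    haveI : IsSimpleGroup K := @MulEquiv.isSimpleGroup _ _ _ _
      (Cfsg.Lib.Linear.PSL_simple 2 le_rfl (fun _ => by rw [Nat.card_eq_fintype_card, hF]; norm_num)) e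
    rcases IsSimpleGroup.eq_bot_or_eq_top_of_normal (P : Subgroup K) inferInstance with h1 | h1
    · rw [h1, Subgroup.card_bot] at hP; omega
    · rw [h1, Subgroup.card_top, hK] at hP; omega
  have hN28 : N.index = 28 := by
    have h1 := h9 N hNtop
    have hmem : N.index ∈ Nat.divisors 56 := Nat.mem_divisors.2 ⟨hNdvd, by norm_num⟩
    rw [show Nat.divisors 56 = {1, 2, 4, 7, 8, 14, 28, 56} from rfl] at hmem
    simp only [Finset.mem_insert, Finset.mem_singleton] at hmem
    unfold Nat.ModEq at hNmod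
    omega
  refine ⟨P, ⟨P.2, P.not_dvd_index, hNtop⟩, fun M hM => (em (M = ⊤)).elim Or.inr fun hMt => Or.inl ?_⟩
  have hr := relIndex_normalizer_modEq P hM
  have hmul := Subgroup.relIndex_mul_index hM
  rw [hN28] at hmul
  have h1 := h9 M hMt
  have hle : (normalizer ((P : Subgroup K) : Set K)).relIndex M ≤ 3 := by
    by_contra hgt
    nlinarith [hmul]
  refine le_antisymm (Subgroup.relIndex_eq_one.1 ?_) hM
  unfold Nat.ModEq at hr
  interval_cases hcase : (normalizer ((P : Subgroup K) : Set K)).relIndex M <;> omega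

section A6

/-- The alternating group of degree six. -/
abbrev A₆ : Type := ↥(alternatingGroup (Fin 6))

/-- The stabiliser of the partition into three pairs. -/
def a6Pairs : Subgroup A₆ where
  carrier := {g | ∀ i j : Fin 6, ((g : Equiv.Perm (Fin 6)) i).1 / 2 = ((g : Equiv.Perm (Fin 6)) j).1 / 2 ↔ i.1 / 2 = j.1 / 2}
  one_mem' := fun _ _ => Iff.rfl
  mul_mem' := fun {g h} hg hh i j => (hg _ _).trans (hh i j)
  inv_mem' := fun {g} hg i j => by
    have := hg ((g : Equiv.Perm (Fin 6))⁻¹ i) ((g : Equiv.Perm (Fin 6))⁻¹ j)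
    simp only [← Equiv.Perm.mul_apply, mul_inv_cancel, Equiv.Perm.one_apply] at this
    simpa using this.symm

/-- The stabiliser of the first pair. -/
def a6Pair : Subgroup A₆ where
  carrier := {g | ∀ i : Fin 6, ((g : Equiv.Perm (Fin 6)) i).1 < 2 ↔ i.1 < 2}
  one_mem' := fun _ => Iff.rfl
  mul_mem' := fun {g h} hg hh i => (hg _).trans (hh i)
  inv_mem' := fun {g} hg i => by
    have := hg ((g : Equiv.Perm (Fin 6))⁻¹ i)
    simp only [← Equiv.Perm.mul_apply, mul_inv_cancel, Equiv.Perm.one_apply] at this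
    simpa using this.symm

instance : DecidablePred (· ∈ a6Pairs) := fun g =>
  inferInstanceAs (Decidable (∀ i j : Fin 6, ((g : Equiv.Perm (Fin 6)) i).1 / 2 = ((g : Equiv.Perm (Fin 6)) j).1 / 2 ↔ i.1 / 2 = j.1 / 2))

instance : DecidablePred (· ∈ a6Pair) := fun g =>
  inferInstanceAs (Decidable (∀ i : Fin 6, ((g : Equiv.Perm (Fin 6)) i).1 < 2 ↔ i.1 < 2))

/-- An element of order four of both stabilisers. -/
def a6Four : A₆ := ⟨Equiv.swap 2 4 * Equiv.swap 4 3 * Equiv.swap 3 5 * Equiv.swap 0 1,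
  Equiv.Perm.mem_alternatingGroup.2 (by decide +kernel)⟩

/-- An involution of both stabilisers. -/
def a6Two : A₆ := ⟨Equiv.swap 0 1 * Equiv.swap 2 3, Equiv.Perm.mem_alternatingGroup.2 (by decide +kernel)⟩

/-- The Sylow subgroup common to the two stabilisers, as a list. -/
def a6List : List A₆ := [1, a6Four, a6Four * a6Four, a6Four * a6Four * a6Four, a6Two, a6Two * a6Four,
  a6Two * (a6Four * a6Four), a6Two * (a6Four * a6Four * a6Four)]

theorem a6List_mem : ∀ u ∈ a6List, u ∈ a6Pairs ∧ u ∈ a6Pair := by decide +kernel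

theorem a6_out : ∀ g : A₆, g ∈ a6Pairs ∨ g ∈ a6Pair ∨ ∃ u ∈ a6List, g * u ≠ 1 ∧ (g * u) ^ 5 = 1 := by
  decide +kernel

theorem a6_five : ∀ g : A₆, g = 1 ∨ g ^ 5 ≠ 1 ∨
    ∃ u ∈ a6List, ∃ k ∈ [1, 2, 3], g ^ k * u ≠ 1 ∧ (g ^ k * u) ^ 3 = 1 := by decide +kernel

theorem a6_counts : Fintype.card {g : A₆ // g ∈ a6Pairs ∧ g ∈ a6Pair} = 8 ∧
    (∃ g : A₆, g ∉ a6Pairs) ∧ (∃ g : A₆, g ∉ a6Pair) ∧ (∃ g : A₆, g ∈ a6Pairs ∧ g ∉ a6Pair) ∧
    ∃ g : A₆, g ∈ a6Pair ∧ g ∉ a6Pairs := by decide +kernel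

theorem pair_a6 [Fact (Nat.Prime 2)] : Pair 2 A₆ := by
  haveI : IsSimpleGroup A₆ := alternatingGroup.isSimpleGroup (α := Fin 6) (by simp)
  obtain ⟨h8, ⟨gA, hgA⟩, ⟨gB, hgB⟩, ⟨a, haA, haB⟩, b, hbB, hbA⟩ := a6_counts
  have hK : Nat.card A₆ = 360 := by rw [nat_card_alternatingGroup]; simp [Nat.factorial]
  set U := a6Pairs ⊓ a6Pair with hU
  have hUc : Nat.card U = 8 := by
    rw [← h8, ← Nat.card_eq_fintype_card]
    exact Nat.card_congr (Equiv.subtypeEquivRight fun g => Iff.rfl)
  have hUi : U.index = 45 := by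
    have h := U.card_mul_index
    rw [hUc, hK] at h
    omega
  have hmem : ∀ u ∈ a6List, u ∈ U := fun u hu => Subgroup.mem_inf.2 (a6List_mem u hu)
  -- a proper overgroup lies in one of the stabilisers
  have hover : ∀ M : Subgroup A₆, U ≤ M → M ≠ ⊤ → M ≤ a6Pairs ∨ M ≤ a6Pair := by
    intro M hUM hM
    have h8M : 8 ∣ Nat.card M := hUc ▸ Subgroup.card_dvd_of_le hUM
    have hord : ∀ {q : ℕ}, q.Prime → ∀ x ∈ M, x ≠ 1 → x ^ q = 1 → q ∣ Nat.card M := by
      intro q hq x hx h1 hx5
      haveI := Fact.mk hq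
      rw [← orderOf_eq_prime hx5 h1, ← Subgroup.orderOf_mk x hx]
      exact orderOf_dvd_natCard _
    have h5 : ¬ 5 ∣ Nat.card M := by
      intro h5
      haveI : Fact (Nat.Prime 5) := ⟨Nat.prime_five⟩
      obtain ⟨g, hg⟩ := exists_prime_orderOf_dvd_card' 5 h5
      rw [← Subgroup.orderOf_coe] at hg
      have hg1 : (g : A₆) ≠ 1 := fun e => by rw [e, orderOf_one] at hg; norm_num at hg
      obtain ⟨u, hu, k, -, h1, h3⟩ := ((a6_five g).resolve_left hg1).resolve_left fun h => h (hg ▸ pow_orderOf_eq_one _)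
      have h3' := hord Nat.prime_three _ (mul_mem (pow_mem g.2 k) (hUM (hmem u hu))) h1 h3
      have h120 : 120 ∣ Nat.card M := by
        have h24 : 24 ∣ Nat.card M := Nat.Coprime.mul_dvd_of_dvd_of_dvd (by norm_num : Nat.Coprime 8 3) h8M h3'
        exact Nat.Coprime.mul_dvd_of_dvd_of_dvd (by norm_num : Nat.Coprime 24 5) h24 h5
      obtain ⟨j, hj⟩ := h120
      have h1' := M.card_mul_index
      rw [hK, hj] at h1'
      have hd := card_dvd_factorial M hM
      rw [hK] at hd
      have hle : M.index ≤ 3 := by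
        rcases Nat.eq_zero_or_pos j with rfl | hj0
        · simp at h1'
        · nlinarith
      have hfd : M.index.factorial ∣ Nat.factorial 3 := Nat.factorial_dvd_factorial hle
      exact absurd (Nat.le_of_dvd (by decide) (hd.trans hfd)) (by decide)
    have hsub : ∀ g ∈ M, g ∈ a6Pairs ∨ g ∈ a6Pair := fun g hg => by
      rcases a6_out g with h | h | ⟨u, hu, h1, h2⟩
      · exact Or.inl h
      · exact Or.inr h
      · exact absurd (hord Nat.prime_five _ (mul_mem hg (hUM (hmem u hu))) h1 h2) h5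
    by_contra hno
    push Not at hno
    obtain ⟨⟨x, hx, hxA⟩, ⟨y, hy, hyB⟩⟩ := And.imp SetLike.not_le_iff_exists.1 SetLike.not_le_iff_exists.1 hno
    have hxB := (hsub x hx).resolve_left hxA
    have hyA := (hsub y hy).resolve_right hyB
    rcases hsub _ (mul_mem hx hy) with h | h
    · exact hxA (by simpa using mul_mem h (inv_mem hyA))
    · exact hyB (by simpa using mul_mem (inv_mem hxB) h)
  have hAt : a6Pairs ≠ ⊤ := fun h => hgA (h ▸ Subgroup.mem_top gA)
  have hBt : a6Pair ≠ ⊤ := fun h => hgB (h ▸ Subgroup.mem_top gB)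
  refine ⟨U, a6Pairs, a6Pair, ⟨IsPGroup.of_card (n := 3) hUc, by rw [hUi]; decide, fun h => ?_⟩, inf_le_left,
    inf_le_right, hAt, hBt, ?_, Subgroup.le_normalizer, hover⟩
  · haveI := Subgroup.normalizer_eq_top_iff.1 h
    rcases IsSimpleGroup.eq_bot_or_eq_top_of_normal U inferInstance with e | e
    · rw [e, Subgroup.card_bot] at hUc; omega
    · rw [e, Subgroup.card_top, hK] at hUc; omega
  · by_contra hne
    rcases hover _ (inf_le_left.trans le_sup_left) hne with h | h
    · exact hbA (h (Subgroup.mem_sup_right hbB))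
    · exact haB (h (Subgroup.mem_sup_left haA))

end A6

end Cfsg.Lib.DefChar.PMin
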