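import Cfsg.Agent.Lib.DefChar.PMin.BN
import Cfsg.Agent.Lib.DefChar.Overgroup.Types
import Cfsg.Agent.S1074

/-!
# The Tits group

The two minimal parabolic subgroups of `²F₄(2)` have different orders, so an automorphism of the derived group keeping
the Sylow subgroup keeps their intersections with the derived group.
-/

set_option autoImplicit false
set_option linter.unusedSectionVars false
set_option maxRecDepth 100000

namespace Cfsg.Lib.DefChar.PMin

open Cfsg Cfsg.Lie Cfsg.Lib.Chev Cfsg.Lib.DefChar Subgroup Cfsg.Lib.Linear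

variable {E : Type} [Field E] [CharP E esymF4.p] [Fintype E] (hF : Fintype.card E = 2 ^ (2 * 0 + 1))
include hF

theorem tits_card_inf {H : Subgroup ↥(titsG E)} (hH : titsElt hF [1] ∈ H) :
    Nat.card H = 2 * Nat.card ↥(H ⊓ TitsSub E) := by
  set T := TitsSub E with hT
  have hTn : T.Normal := inferInstance
  have hTidx : T.index = 2 := tits_index_two hF
  have h1 := (T.subgroupOf H).card_mul_index
  have hd : T.relIndex H ∣ 2 := hTidx ▸ Subgroup.relIndex_dvd_index_of_normal T H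
  have hne : T.relIndex H ≠ 1 := fun h => tits_gen_one_not_mem hF ((Subgroup.relIndex_eq_one.1 h) hH)
  have h2 : (T.subgroupOf H).index = 2 := ((Nat.dvd_prime Nat.prime_two).1 hd).resolve_left hne
  rw [h2] at h1
  rw [← h1, mul_comm, ← Subgroup.inf_subgroupOf_right, ← inf_comm]
  congr 1
  exact Nat.card_congr (Subgroup.subgroupOfEquivOfLe inf_le_left).toEquiv

theorem split_tits_sub [IsSimpleGroup ↥(TitsSub E)] : Split 2 ↥(TitsSub E) := by
  classical
  haveI : Fact (Nat.Prime 2) := ⟨Nat.prime_two⟩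
  obtain ⟨P, n, hB, hS, hinj, hexact, hsq, hrefl⟩ := tits_exists_reps hF
  set U := (chevF4.posUnipotent E).subgroupOf (titsG E) with hU
  set T := TitsSub E with hT
  let X := F4Aut.fX hF
  have hUcard : Nat.card U = 4096 := tits_syl_card hF
  have hg : titsElt hF [1] ∈ U := titsElt_pos hF [1]
  have hsub : ∀ J : Fin 2, ({n J} : Set ↥(titsG E)) ⊆ P.S := fun J =>
    Set.singleton_subset_iff.2 (hS ▸ Set.mem_range_self J)
  have hUP : ∀ J : Fin 2, U ≤ P.parabolic {n J} := fun J => hB ▸ BN.B_le_parabolic _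
  -- the cells
  have hrep : ∀ J : Fin 2, X.rep J = n J := fun J =>
    Subtype.ext (((inv_mul_eq_one.1 (tits_diag_eq_one hF (X.rep_spec J))).symm).trans (hexact J).symm)
  have hbU : ∀ {b : ↥(titsG E)}, b ∈ X.borT → b ∈ U := fun {b} hb =>
    (tits_borel_le hF (Subgroup.mem_inf.2 ⟨hb, b.2⟩)).1
  have hUb : ∀ {b : ↥(titsG E)}, b ∈ U → b ∈ X.borT := fun hb => Subgroup.mem_sup_left hb
  have hX0 : Nat.card ↥(X.Xp 0) = 2 := by
    have hb : Function.Bijective (fun t : E => (⟨F4Aut.eP hF t, (F4Aut.mem_Xp0 hF).2 ⟨t, rfl⟩⟩ : ↥(X.Xp 0))) :=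
      ⟨fun a b e => F4Aut.eP_inj hF (congrArg Subtype.val e), fun ⟨g, hg⟩ => by
        obtain ⟨t, rfl⟩ := (F4Aut.mem_Xp0 hF).1 hg; exact ⟨t, rfl⟩⟩
    rw [← Nat.card_congr (Equiv.ofBijective _ hb), Nat.card_eq_fintype_card, hF]; rfl
  have hX1 : Nat.card ↥(X.Xp 1) = 4 := by
    have hb : Function.Bijective (fun t : E × E =>
        (⟨F4Aut.eQ hF t.1 t.2, (F4Aut.mem_Xp1 hF).2 ⟨t.1, t.2, rfl⟩⟩ : ↥(X.Xp 1))) :=
      ⟨fun a b e => Prod.ext (F4Aut.eQ_inj hF (congrArg Subtype.val e)).1 (F4Aut.eQ_inj hF (congrArg Subtype.val e)).2,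
        fun ⟨g, hg⟩ => by obtain ⟨t, u, rfl⟩ := (F4Aut.mem_Xp1 hF).1 hg; exact ⟨(t, u), rfl⟩⟩
    rw [← Nat.card_congr (Equiv.ofBijective _ hb), Nat.card_prod, Nat.card_eq_fintype_card, hF]; rfl
  have hP0 : Nat.card ↥(P.parabolic {n 0}) ≤ 12288 := by
    let f : ↥U ⊕ ↥U × ↥(X.Xp 0) → ↥(titsG E) := Sum.elim (fun u => u.1) (fun p => p.1.1 * n 0 * p.2.1)
    have hle : (P.parabolic {n 0} : Set ↥(titsG E)) ⊆ Set.range f := by
      intro g hg
      rcases mem_parabolic_single (hsub 0 rfl) hg with h | h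
      · exact ⟨Sum.inl ⟨g, hB ▸ h⟩, rfl⟩
      · obtain ⟨b, hb, c, hc, e⟩ := BN.mem_cell.1 h
        rw [hB] at hb hc
        obtain ⟨b', hb', c', hc', e'⟩ := X.cell_form (J := (0 : Fin 2))
          (g := g) ⟨b, hUb hb, c, hUb hc, by rw [hrep]; exact e⟩
        refine ⟨Sum.inr (⟨b', hbU hb'⟩, ⟨c', hc'⟩), ?_⟩
        show b' * n 0 * c' = g
        rw [← hrep]; exact e'.symm
    have h1 : Nat.card ↥(P.parabolic {n 0}) ≤ Nat.card (Set.range f) :=
      Nat.card_mono (Set.toFinite _) hle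
    refine h1.trans ((Finite.card_range_le f).trans ?_)
    rw [Nat.card_sum, Nat.card_prod, hUcard, hX0]
  have hP1 : 16384 ≤ Nat.card ↥(P.parabolic {n 1}) := by
    have hn1 : n 1 ∈ P.parabolic {n 1} := BN.subset_parabolic _ rfl
    let f : ↥U × ↥(X.Xp 1) → ↥(P.parabolic {n 1}) := fun p =>
      ⟨p.1.1 * n 1 * p.2.1, mul_mem (mul_mem (hUP 1 p.1.2) hn1) (hUP 1 (hbU (X.Xp_pos p.2.2)))⟩
    have hf : Function.Injective f := by
      rintro ⟨⟨b, hb⟩, ⟨c, hc⟩⟩ ⟨⟨b', hb'⟩, ⟨c', hc'⟩⟩ e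
      have e' : b * n 1 * c = b' * n 1 * c' := congrArg Subtype.val e
      have hcc : c = c' := X.cell_unique (J := (1 : Fin 2)) (hUb hb) (hUb hb') hc hc' (by rw [hrep]; exact e')
      subst hcc
      rw [mul_left_inj, mul_left_inj] at e'
      subst e'
      rfl
    have := Nat.card_le_card_of_injective f hf
    rw [Nat.card_prod, hUcard, hX1] at this
    exact this
  -- the subgroups of the derived group
  set U₀ : Subgroup ↥T := U.subgroupOf T with hU₀
  set A : Fin 2 → Subgroup ↥T := fun J => (P.parabolic {n J}).subgroupOf T with hAdef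
  have hUA : ∀ J, U₀ ≤ A J := fun J u hu => hUP J hu
  have hcardA : ∀ J, Nat.card ↥(P.parabolic {n J}) = 2 * Nat.card ↥(A J) := fun J => by
    rw [tits_card_inf hF (hUP J hg)]
    congr 1
    show _ = Nat.card ↥((P.parabolic {n J}).subgroupOf T)
    rw [← Subgroup.inf_subgroupOf_right]
    exact (Nat.card_congr (Subgroup.subgroupOfEquivOfLe inf_le_right).toEquiv).symm
  have hTcard : Nat.card ↥T = 2 ^ 11 * 3 ^ 3 * 5 ^ 2 * 13 := tits_card hF
  have hbound : ∀ J, Nat.card ↥(P.parabolic {n J}) ≤ 20480 := fun J => by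
    refine tits_overgroup_card hF _ (fun x hx => hUP J hx) fun htop => ?_
    have h1 : ∀ L : Fin 2, n L ∈ P.S ∩ (P.parabolic {n J} : Set ↥(titsG E)) := fun L =>
      ⟨hS ▸ Set.mem_range_self L, by rw [htop]; exact Subgroup.mem_top _⟩
    rw [BN.S_inter_parabolic (hsub J)] at h1
    exact absurd ((hinj (h1 0)).trans (hinj (h1 1)).symm) (by decide)
  have hAt : ∀ J, A J ≠ ⊤ := fun J h => by
    have h1 := hcardA J
    rw [h, Subgroup.card_top, hTcard] at h1
    have := hbound J
    omega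
  have hover : ∀ M : Subgroup ↥T, U₀ ≤ M → M ≠ ⊤ → ∃ L, M ≤ A L := by
    intro M hUM hM
    rcases tits_core_cases hF hB hS hinj hexact hsq hrefl (M.map T.subtype) (map_subtype_le _)
      (fun u hu huT => ⟨⟨u, huT⟩, hUM hu, rfl⟩) with h | ⟨⟨L, hL⟩, -⟩
    · exact absurd (Subgroup.map_injective T.subtype_injective (by
        rw [h, ← MonoidHom.range_eq_map, Subgroup.range_subtype])) hM
    · exact ⟨L, fun x hx => hL ⟨x, hx, rfl⟩⟩
  have hnle : ∀ J L : Fin 2, A J ≤ A L → J = L := by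
    intro J L h
    have hnJ : n J ∈ P.parabolic {n L} := by
      by_cases hT' : n J ∈ T
      · exact h (show (⟨n J, hT'⟩ : ↥T) ∈ A J from BN.subset_parabolic _ rfl)
      · have hm := tits_not_mem_mul hF hT'
        have h1 : n J * titsElt hF [1] ∈ P.parabolic {n L} :=
          h (show (⟨_, hm⟩ : ↥T) ∈ A J from mul_mem (BN.subset_parabolic {n J} rfl) (hUP J hg))
        have := mul_mem h1 (inv_mem (hUP L hg))
        simpa using this
    have h2 : n J ∈ P.S ∩ (P.parabolic {n L} : Set ↥(titsG E)) := ⟨hS ▸ Set.mem_range_self J, hnJ⟩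
    rw [BN.S_inter_parabolic (hsub L)] at h2
    exact hinj h2
  have hB0 : Base 2 U₀ := by
    have hi : ¬ 2 ∣ U₀.index := by
      intro hd
      have hUi : ¬ 2 ∣ U.index := by
        have h1 := U.card_mul_index
        have h2 := T.card_mul_index
        rw [tits_index_two hF, hTcard] at h2
        rw [hUcard, ← h2] at h1
        intro hd
        obtain ⟨j, hj⟩ := hd
        rw [hj] at h1
        norm_num at h1
        omega
      haveI : T.Normal := inferInstance
      have h1 : (U.subgroupOf T).index * T.index = (U ⊓ T).index := by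
        rw [← Subgroup.relIndex_mul_index (inf_le_right : U ⊓ T ≤ T), Subgroup.inf_relIndex_right]; rfl
      have h2 : (U ⊓ T).index = T.relIndex U * U.index := by
        rw [← Subgroup.relIndex_mul_index (inf_le_left : U ⊓ T ≤ U), Subgroup.inf_relIndex_left]
      have h3 : T.relIndex U ∣ 2 := (Subgroup.relIndex_dvd_index_of_normal T U).trans (tits_index_two hF).dvd
      have h4 : (U.subgroupOf T).index * T.index ∣ U.index * 2 := by
        rw [h1, h2, mul_comm U.index]; exact Nat.mul_dvd_mul_right h3 _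
      rw [show T.index = 2 from tits_index_two hF] at h4
      exact hUi (hd.trans ((Nat.mul_dvd_mul_iff_right Nat.two_pos).1 h4))
    refine ⟨(tits_syl_pgroup hF).comap_of_injective _ T.subtype_injective, hi, fun h => ?_⟩
    haveI := Subgroup.normalizer_eq_top_iff.1 h
    rcases IsSimpleGroup.eq_bot_or_eq_top_of_normal U₀ inferInstance with e | e
    · rw [e, Subgroup.index_bot, hTcard] at hi
      exact hi (by norm_num)
    · exact hAt 0 (top_le_iff.1 (e ▸ hUA 0))
  refine ⟨U₀, A 0, A 1, hB0, hUA 0, hUA 1, hAt 0, hAt 1, ?_, fun θ hθ => ?_⟩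
  · by_contra hne
    obtain ⟨L, hL⟩ := hover _ ((hUA 0).trans le_sup_left) hne
    exact absurd ((hnle 0 L (le_sup_left.trans hL)).trans (hnle 1 L (le_sup_right.trans hL)).symm) (by decide)
  have himg : ∀ J, ∃ L, (A J).map θ.toMonoidHom ≤ A L := fun J =>
    hover _ (hθ.2.symm.le.trans (Subgroup.map_mono (hUA J))) (map_ne_top θ (hAt J))
  have hcm : ∀ J, Nat.card ↥((A J).map θ.toMonoidHom) = Nat.card ↥(A J) := fun J =>
    (Nat.card_congr ((A J).equivMapOfInjective _ θ.injective).toEquiv).symm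
  have h1 : (A 1).map θ.toMonoidHom = A 1 := by
    obtain ⟨L, hL⟩ := himg 1
    have hc := Subgroup.card_le_of_le hL
    rw [hcm] at hc
    fin_cases L
    · exfalso
      have hc' : Nat.card ↥(A 1) ≤ Nat.card ↥(A 0) := hc
      have := hcardA 0
      have := hcardA 1
      omega
    · exact Subgroup.eq_of_le_of_card_ge hL (hcm 1).ge
  refine ⟨?_, h1⟩
  obtain ⟨L, hL⟩ := himg 0
  fin_cases L
  · exact Subgroup.eq_of_le_of_card_ge hL (hcm 0).ge
  · exfalso
    exact absurd (hnle 0 1 ((Subgroup.map_le_map_iff_of_injective θ.injective).1 (hL.trans h1.ge))) (by decide)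

theorem split_tits {K : Type*} [Group K] [hs : IsSimpleGroup K] (e : K ≃* ↥(TitsSub E)) : Split 2 K := by
  haveI : IsSimpleGroup ↥(TitsSub E) := @MulEquiv.isSimpleGroup _ _ _ _ hs e.symm
  exact Split.of_equiv e.symm (split_tits_sub hF)

omit hF

set_option maxHeartbeats 1000000 in
/-- The Tits group is of the split kind. -/
theorem kind_tits {K : Type*} [Group K] (hK : Cfsg.Lie.IsoTits K) : Kind 2 K := by
  haveI : CharP (ZMod 2) esymF4.p := ZMod.charP 2
  haveI : IsSimpleGroup K := @MulEquiv.isSimpleGroup _ _ _ _ Cfsg.Agent.S1074.result.2.1 hK.some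
  have hF : Fintype.card (ZMod 2) = 2 ^ (2 * 0 + 1) := ZMod.card 2
  have heq : twistedF4 (ZMod 2) 1 = titsG (ZMod 2) := twistedF4_eq (m := 0) hF
  obtain ⟨e⟩ := hK
  unfold Cfsg.Lie.TitsGroup at e
  rw [heq] at e
  exact Or.inr (Or.inl (split_tits hF e))

end Cfsg.Lib.DefChar.PMin
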