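import Cfsg.Agent.Lib.DefChar.PMin.BN
import Cfsg.Agent.Lib.DefChar.Overgroup.Types
import Cfsg.Agent.Lib.Chev.TwF4AutOut
import Cfsg.Agent.S1070
import Cfsg.Agent.S1071
import Cfsg.Agent.S1072
import Cfsg.Agent.S1073

/-!
# The twisted groups of the exceptional types

An automorphism keeping the maximal unipotent subgroup fixes the orbits of fundamental roots, the
orbits in types `²E₆`, `³D₄` and `²F₄`; type `²G₂` has one orbit.
-/

set_option autoImplicit false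
set_option linter.unusedSectionVars false
set_option maxRecDepth 100000

namespace Cfsg.Lib.DefChar.PMin

open Cfsg Cfsg.Lie Cfsg.Lib.Chev Cfsg.Lib.DefChar Cfsg.Lib.Linear.BN Subgroup

variable {D : ChevalleyDatum} {T : Tbl} {F : Type*} [Field F] [Finite F] {p : ℕ} [Fact p.Prime] [CharP F p]

/-- An element keeping the unipotent group is in the Borel subgroup. -/
theorem mem_borT_of_keeps (X : TwGen D T F) {θ : MulAut ↥X.grp} (hθ : X.posT.map θ.toMonoidHom = X.posT) {x : ↥X.grp}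
    (hU : AutKeeps (MulAut.conj x * θ) X.posT) : x ∈ X.borT := by
  rw [← X.normalizer_posT, Subgroup.mem_normalizer_iff]
  intro u
  obtain ⟨v, rfl⟩ := θ.surjective u
  rw [show x * θ v * x⁻¹ = (MulAut.conj x * θ) v from rfl, hU v]
  conv_lhs => rw [← hθ]
  exact Subgroup.mem_map_iff_mem θ.injective

/-- A set of orbits kept by the automorphisms. -/
theorem split_twisted (X : TwGen D T F) (hL : TwLinked D T X.tw) [IsSimpleGroup ↥X.grp]
    (r : Fin X.tw.norb → ↥X.grp)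
    (hr : ∀ J : Fin X.tw.norb, (wnu X.cert F (X.tw.lw J))⁻¹ * (r J : GL D.Idx F) ∈ D.diagonalSubgroup F)
    (Js : Set (Fin X.tw.norb)) {i j : Fin X.tw.norb} (hi : i ∈ Js) (hj : j ∉ Js)
    (hst : ∀ θ : MulAut ↥X.grp, AutKeeps θ X.posT → AutKeeps θ X.negT → ∃ π : Fin X.tw.norb → Fin X.tw.norb,
      (∀ J, (π J ∈ Js ↔ J ∈ Js)) ∧ ∀ J, ∃ b ∈ X.borT, ∃ c ∈ X.borT, θ (r J) = b * r (π J) * c) :
    Split p ↥X.grp := by
  obtain ⟨P, n, hB, hS, hinj, hn, H⟩ := twisted_splitPair (p := p) X hL i.pos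
  have hsub : ∀ J' : Set (Fin X.tw.norb), n '' J' ⊆ P.S := fun J' => hS ▸ Set.image_subset_range _ _
  refine split_bn H (hsub Js) (hsub Jsᶜ) (by rw [hS, ← Set.image_union, Set.union_compl_self, Set.image_univ])
    ⟨n j, hS ▸ Set.mem_range_self j, fun ⟨k, hk, e⟩ => hj (hinj e ▸ hk)⟩
    ⟨n i, hS ▸ Set.mem_range_self i, fun ⟨k, hk, e⟩ => hk (hinj e ▸ hi)⟩ fun θ hθ => ?_
  obtain ⟨x, hU, hV⟩ := X.exists_inner_normaliseT θ
  obtain ⟨π, hπ, hcell⟩ := hst _ hU hV
  have hBk : AutKeeps (MulAut.conj x * θ) X.borT := by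
    have := hU.normalizer
    rwa [X.normalizer_posT] at this
  have hd : ∀ J, (n J)⁻¹ * r J ∈ X.borT := fun J => by
    refine Subgroup.mem_sup_right ?_
    show ((n J : GL D.Idx F))⁻¹ * (r J : GL D.Idx F) ∈ D.diagonalSubgroup F
    have := mul_mem (inv_mem (hn J)) (hr J)
    simpa [mul_assoc] using this
  have key : ∀ J' : Set (Fin X.tw.norb), (∀ J ∈ J', π J ∈ J') →
      (P.parabolic (n '' J')).map θ.toMonoidHom = P.parabolic (n '' J') := by
    intro J' hJ'
    have hBp : ∀ {z : ↥X.grp}, z ∈ X.borT → z ∈ P.parabolic (n '' J') := fun hz =>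
      B_le_parabolic _ (hB.symm ▸ hz)
    refine map_eq_of_conj (hBp (mem_borT_of_keeps X hθ.2 hU)) fun a ha => ?_
    suffices h : P.parabolic (n '' J') ≤ (P.parabolic (n '' J')).comap (MulAut.conj x * θ).toMonoidHom from h ha
    refine sup_le (fun b hb => hBp ((hBk b).2 (hB ▸ hb))) ((Subgroup.closure_le _).2 ?_)
    rintro _ ⟨J, hJ, rfl⟩
    show (MulAut.conj x * θ) (n J) ∈ P.parabolic (n '' J')
    obtain ⟨b, hb, c, hc, e⟩ := hcell J
    rw [show n J = r J * ((n J)⁻¹ * r J)⁻¹ by group, map_mul, e,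
      show r (π J) = n (π J) * ((n (π J))⁻¹ * r (π J)) by group]
    exact mul_mem (mul_mem (mul_mem (hBp hb) (mul_mem (subset_parabolic _ ⟨π J, hJ' J hJ, rfl⟩) (hBp (hd _)))) (hBp hc))
      (hBp ((hBk _).2 (inv_mem (hd J))))
  exact ⟨key Js fun J h => (hπ J).2 h, key Jsᶜ fun J h h' => h ((hπ J).1 h')⟩

/-- In the types with orbits of orthogonal roots every orbit is fixed. -/
theorem split_ctx {F : Type} [Field F] [Finite F] [CharP F p] {D : ChevalleyDatum} {T : Tbl} (X : TwCtx D T F)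
    (A : X.AutChecks) [hs : IsSimpleGroup ↥X.grp] {a b : ℕ} (ha : a < D.rank) (hb : b < D.rank) (hab : a ≠ b)
    (hc : T.cartan a (T.simp' b) ≠ 0) : Split p ↥X.grp := by
  haveI : IsSimpleGroup ↥(genOfCtx X).grp := hs
  obtain ⟨i, hi, hai⟩ := X.comb.orb_cover a ha
  obtain ⟨j, hj, hbj⟩ := X.comb.orb_cover b hb
  have hij : j ≠ i := fun e => hc (X.simply.orb_comm i hi a hai b (e ▸ hbj) hab).1
  refine split_twisted (genOfCtx X) X.linked (fun J : Fin X.tw.norb => X.refT J) (fun (J : Fin X.tw.norb) => ?_) {(⟨i, hi⟩ : Fin X.tw.norb)}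
    (i := ⟨i, hi⟩) (j := ⟨j, hj⟩) rfl (fun h => hij (congrArg Fin.val (Set.mem_singleton_iff.1 h))) fun θ hU hV => ?_
  · show (wnu X.cert F (X.tw.lw J))⁻¹ * X.nn J 1 ∈ D.diagonalSubgroup F
    rw [X.nn_one, inv_mul_cancel]
    exact one_mem _
  obtain ⟨π, c, σ, φ, ψ, hact, hlen, hc, hφ⟩ := X.exists_orbAct A.norb_pos A.flip A.commNeg hU hV
  have h1 : ∀ J : Fin X.tw.norb, φ J 1 = c J ∧ ψ J (-1) = -((c J : F))⁻¹ := fun J => by
    refine ⟨?_, ?_⟩
    · have := (hφ J 1).1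
      simpa using this
    · have := (hφ J (-1)).2
      simpa using this
  obtain rfl := X.perm_eq_one A.noGraph hU hV hlen hact h1
  refine ⟨id, fun J => Iff.rfl, fun (J : Fin X.tw.norb) => ⟨⟨X.tor J (c J), X.tor_mem J (hc J)⟩,
    Subgroup.mem_sup_right (X.tor_diag _ _), 1, one_mem _, ?_⟩⟩
  rw [mul_one]
  refine Subtype.ext ?_
  show (θ (X.refT J) : GL D.Idx F) = X.tor J (c J) * X.nn J 1
  rw [← X.nn_tor]
  exact hact.map_nn X J (1 : ↥(X.sub J)) (c J) (h1 J).1 (by simpa using (h1 J).2)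

section Types

variable {K : Type*} [Group K] {F : Type} [Field F] [Fintype F] {p : ℕ} [Fact p.Prime] [CharP F p]

theorem kind_twistedE6 {q : ℕ} (hq : IsPrimePow q) (hF : Fintype.card F = q ^ 2)
    (e : K ≃* ↥(Cfsg.Lie.twistedE6 F q)) : Kind p K := by
  have hs := (Cfsg.Agent.S1070.result hq hF).1
  obtain ⟨X, hX, A, -⟩ := exists_ctxE6 hq hF
  rw [hX] at hs
  haveI := hs
  refine Or.inr (Or.inl (Split.of_equiv (e.trans (MulEquiv.subgroupCongr hX)).symm ?_))
  exact split_ctx X A (a := 0) (b := 2) (by decide) (by decide) (by decide) (by decide +kernel)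

theorem kind_twistedD4 {q : ℕ} (hq : IsPrimePow q) (hF : Fintype.card F = q ^ 3)
    (e : K ≃* ↥(Cfsg.Lie.twistedD4 F q)) : Kind p K := by
  have hs := (Cfsg.Agent.S1071.result hq hF).1
  obtain ⟨X, hX, A, -⟩ := exists_ctxD4 hq hF
  rw [hX] at hs
  haveI := hs
  refine Or.inr (Or.inl (Split.of_equiv (e.trans (MulEquiv.subgroupCongr hX)).symm ?_))
  exact split_ctx X A (a := 0) (b := 1) (by decide) (by decide) (by decide) (by decide +kernel)

omit [CharP F p] in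
theorem kind_twistedF4 [CharP F 2] [Fact (Nat.Prime 2)] {m : ℕ} (hm : 1 ≤ m) (hF : Fintype.card F = 2 ^ (2 * m + 1))
    (e : K ≃* ↥(Cfsg.Lie.twistedF4 F (2 ^ m))) : Kind 2 K := by
  haveI : CharP F esymF4.p := inferInstanceAs (CharP F 2)
  have hs := (Cfsg.Agent.S1072.result hm hF).1
  rw [twistedF4_eq hF] at hs
  haveI : IsSimpleGroup ↥(F4Aut.fX hF).grp := hs
  refine Or.inr (Or.inl (Split.of_equiv (e.trans (MulEquiv.subgroupCongr (twistedF4_eq hF))).symm ?_))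
  refine split_twisted (F4Aut.fX hF) twLinkedF4 (fun J => (F4Aut.fX hF).rep J) (fun J => (F4Aut.fX hF).rep_spec J)
    {F4Aut.o0 hF} (i := F4Aut.o0 hF) (j := F4Aut.o1 hF) rfl
    (fun h => Nat.one_ne_zero (congrArg Fin.val (Set.mem_singleton_iff.1 h))) fun θ hU hV => ?_
  exact ⟨id, fun J => Iff.rfl, fun J => ((F4Aut.orbit_keep hF hm hU hV).2 J).1⟩

omit [CharP F p] in
theorem rankOne_ree [CharP F 3] [Fact (Nat.Prime 3)] {m : ℕ} (hm : 1 ≤ m) (hF : Fintype.card F = 3 ^ (2 * m + 1))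
    (e : K ≃* ↥(Cfsg.Lie.twistedG2 F (3 ^ m))) : RankOne 3 K := by
  haveI : CharP F esymG2.p := inferInstanceAs (CharP F 3)
  have hs := (Cfsg.Agent.S1073.result hm hF).1
  rw [twistedG2_eq hF] at hs
  let X : TwGen chevG2 tblG2 F :=
    { tw := twG2, sig := twG2σ m, cert := certG2C, full := fullCertG2, comb := twCombG2, ok := twOKG2 m,
      hne := g2_hne hF }
  haveI : IsSimpleGroup ↥X.grp := hs
  refine RankOne.of_equiv (e.trans (MulEquiv.subgroupCongr (twistedG2_eq hF))).symm ?_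
  obtain ⟨P, n, -, hS, -, -, H⟩ := twisted_splitPair (p := 3) X twLinkedG2 (show 0 < twG2.norb by decide)
  refine rankOne_bn H (s := n ⟨0, show 0 < twG2.norb by decide⟩) ?_
  rw [hS]
  ext g
  refine ⟨?_, fun h => ⟨_, (Set.mem_singleton_iff.1 h).symm⟩⟩
  rintro ⟨J, rfl⟩
  exact Set.mem_singleton_iff.2 (congrArg n (Fin.ext (Nat.lt_one_iff.1 (show (J : ℕ) < 1 from J.2))))

end Types

end Cfsg.Lib.DefChar.PMin
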