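import Cfsg.Agent.Lib.DefChar.PMin.BN
import Cfsg.Agent.Lib.U33.Borel
import Cfsg.Agent.S2148

/-!
# The unitary group in dimension three over nine elements

Two overgroups of the monomial Sylow `2`-subgroup that are kept by its stabiliser: the centraliser of its central
involution and the normaliser of its diagonal part, cut out by the commutators.
-/

set_option autoImplicit false
set_option linter.unusedSectionVars false
set_option linter.unusedSimpArgs false
set_option linter.style.longLine false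

namespace Cfsg.Lib.DefChar.PMin

open Subgroup Matrix Cfsg.Lib.Spec.UThree

variable {F : Type} [Field F] [Fintype F]

local notation "SU₃" => Cfsg.SU 3 F 3

/-- The block diagonal elements. -/
def Blk (g : SU₃) : Prop := smat g 0 2 = 0 ∧ smat g 1 2 = 0 ∧ smat g 2 0 = 0 ∧ smat g 2 1 = 0

/-- The diagonal elements. -/
def IsD (g : SU₃) : Prop := Blk g ∧ smat g 0 1 = 0 ∧ smat g 1 0 = 0

/-- The monomial elements moving the first two axes. -/
def IsW (g : SU₃) : Prop := Blk g ∧ smat g 0 0 = 0 ∧ smat g 1 1 = 0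

theorem smat_mul' (g h : SU₃) : smat (g * h) = smat g * smat h := rfl

theorem smat_inj' {g h : SU₃} (e : smat g = smat h) : g = h := Subtype.ext (Subtype.ext e)

theorem isD_one : IsD (1 : SU₃) := by
  have : smat (1 : SU₃) = 1 := rfl
  simp [IsD, Blk, this]

theorem mul_DD {g h : SU₃} (hg : IsD g) (hh : IsD h) : IsD (g * h) := by
  obtain ⟨⟨a, b, c, d⟩, e, f⟩ := hg
  obtain ⟨⟨a', b', c', d'⟩, e', f'⟩ := hh
  simp [IsD, Blk, smat_mul', Matrix.mul_apply, Fin.sum_univ_three, *]

theorem mul_DW {g h : SU₃} (hg : IsD g) (hh : IsW h) : IsW (g * h) := by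
  obtain ⟨⟨a, b, c, d⟩, e, f⟩ := hg
  obtain ⟨⟨a', b', c', d'⟩, e', f'⟩ := hh
  simp [IsW, Blk, smat_mul', Matrix.mul_apply, Fin.sum_univ_three, *]

theorem mul_WD {g h : SU₃} (hg : IsW g) (hh : IsD h) : IsW (g * h) := by
  obtain ⟨⟨a, b, c, d⟩, e, f⟩ := hg
  obtain ⟨⟨a', b', c', d'⟩, e', f'⟩ := hh
  simp [IsW, Blk, smat_mul', Matrix.mul_apply, Fin.sum_univ_three, *]

theorem mul_WW {g h : SU₃} (hg : IsW g) (hh : IsW h) : IsD (g * h) := by
  obtain ⟨⟨a, b, c, d⟩, e, f⟩ := hg
  obtain ⟨⟨a', b', c', d'⟩, e', f'⟩ := hh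
  simp [IsD, Blk, smat_mul', Matrix.mul_apply, Fin.sum_univ_three, *]

variable (hF : Fintype.card F = 3 ^ 2)
include hF

theorem smat_inv' (g : SU₃) : smat g⁻¹ = ((smat g).map (· ^ 3))ᵀ := by
  have h2 := Matrix.inv_eq_left_inv (smat_form hF g)
  rw [← h2]
  refine (Matrix.inv_eq_left_inv ?_).symm
  rw [← smat_mul', inv_mul_cancel]
  rfl

theorem inv_D {g : SU₃} (hg : IsD g) : IsD g⁻¹ := by
  obtain ⟨⟨a, b, c, d⟩, e, f⟩ := hg
  simp [IsD, Blk, smat_inv' hF, *]

theorem inv_W {g : SU₃} (hg : IsW g) : IsW g⁻¹ := by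
  obtain ⟨⟨a, b, c, d⟩, e, f⟩ := hg
  simp [IsW, Blk, smat_inv' hF, *]

/-- The monomial Sylow subgroup. -/
def monoSyl : Subgroup SU₃ where
  carrier := {g | IsD g ∨ IsW g}
  one_mem' := Or.inl isD_one
  mul_mem' := by
    rintro g h (hg | hg) (hh | hh)
    exacts [Or.inl (mul_DD hg hh), Or.inr (mul_DW hg hh), Or.inr (mul_WD hg hh), Or.inl (mul_WW hg hh)]
  inv_mem' := by
    rintro g (hg | hg)
    exacts [Or.inl (inv_D hF hg), Or.inr (inv_W hF hg)]

theorem isD_comm {u v : SU₃} (hu : u ∈ monoSyl hF) (hv : v ∈ monoSyl hF) : IsD (u * v * u⁻¹ * v⁻¹) := by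
  rcases hu with hu | hu <;> rcases hv with hv | hv
  · exact mul_DD (mul_DD (mul_DD hu hv) (inv_D hF hu)) (inv_D hF hv)
  · exact mul_WW (mul_WD (mul_DW hu hv) (inv_D hF hu)) (inv_W hF hv)
  · exact mul_DD (mul_WW (mul_WD hu hv) (inv_W hF hu)) (inv_D hF hv)
  · exact mul_WW (mul_DW (mul_WW hu hv) (inv_W hF hu)) (inv_W hF hv)

theorem isD_comm_mul {s t : SU₃} (hs : IsD s) (ht : IsD t) : s * t = t * s := by
  obtain ⟨⟨a, b, c, d⟩, e, f⟩ := hs
  obtain ⟨⟨a', b', c', d'⟩, e', f'⟩ := ht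
  refine smat_inj' ?_
  ext i j
  fin_cases i <;> fin_cases j <;> simp [smat_mul', Matrix.mul_apply, Fin.sum_univ_three, *] <;> ring

theorem isD_pow_four {g : SU₃} (hg : IsD g) : g ^ 4 = 1 := by
  obtain ⟨⟨a, b, c, d⟩, e, f⟩ := hg
  have hform := smat_form hF g
  have h0 := congrFun (congrFun hform 0) 0
  have h1 := congrFun (congrFun hform 1) 1
  have h2 := congrFun (congrFun hform 2) 2
  simp [Matrix.mul_apply, Fin.sum_univ_three, *] at h0 h1 h2
  have hd : smat g = Matrix.diagonal ![smat g 0 0, smat g 1 1, smat g 2 2] := by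
    ext i j
    fin_cases i <;> fin_cases j <;> simp [*]
  refine smat_inj' ?_
  rw [smat_pow, hd, Matrix.diagonal_pow, show smat (1 : SU₃) = 1 from rfl, Matrix.diagonal_eq_one]
  ext i
  fin_cases i <;> simp [pow_succ] at h0 h1 h2 ⊢ <;> assumption

theorem isPGroup_monoSyl : IsPGroup 2 (monoSyl hF) := by
  rintro ⟨u, hu⟩
  refine ⟨3, Subtype.ext ?_⟩
  show u ^ 2 ^ 3 = 1
  rcases hu with hu | hu
  · rw [show 2 ^ 3 = 4 * 2 by norm_num, pow_mul, isD_pow_four hF hu, one_pow]
  · rw [show 2 ^ 3 = 2 * 4 by norm_num, pow_mul, pow_two, isD_pow_four hF (mul_WW hu hu)]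

theorem exists_el_of {M : Matrix (Fin 3) (Fin 3) F} (hdet : M.det = 1) (hM : Mᵀ * M.map (· ^ 3) = 1) :
    ∃ g : SU₃, smat g = M := exists_of_form hF M hdet hM

theorem exists_i : ∃ i : F, i * i = -1 := by
  obtain ⟨k, hk, e⟩ := Cfsg.Lib.U33.exists_generator (F := F) hF
  refine ⟨k, ?_⟩
  refine mul_left_cancel₀ hk ?_
  linear_combination e

theorem exists_diag_el {i : F} (hi : i * i = -1) (a b : ℕ) :
    ∃ g : SU₃, smat g = Matrix.diagonal ![i ^ a, i ^ b, i ^ (3 * (a + b))] := by
  have h4 : i ^ 4 = 1 := by linear_combination (i * i - 1) * hi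
  have hN : ∀ n : ℕ, i ^ n * (i ^ n) ^ 3 = 1 := fun n => by
    rw [← pow_succ', ← pow_mul, mul_comm, pow_mul, show 3 + 1 = 4 from rfl, h4, one_pow]
  refine exists_el_of hF ?_ ?_
  · rw [Matrix.det_diagonal, Fin.prod_univ_three]
    simp only [Matrix.cons_val_zero, Matrix.cons_val_one, Matrix.cons_val_two, Matrix.tail_cons, Matrix.head_cons]
    rw [← pow_add, ← pow_add, show a + b + 3 * (a + b) = 4 * (a + b) by ring, pow_mul, h4, one_pow]
  · rw [Matrix.diagonal_transpose, Matrix.diagonal_map (by norm_num), Matrix.diagonal_mul_diagonal,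
      Matrix.diagonal_eq_one]
    ext j
    fin_cases j <;> exact hN _

theorem exists_wmat' : ∃ g : SU₃, smat g = !![0, 1, 0; -1, 0, 0; 0, 0, 1] := by
  refine exists_el_of hF (by simp [Matrix.det_fin_three]) ?_
  ext i j
  fin_cases i <;> fin_cases j <;> simp [Matrix.mul_apply, Fin.sum_univ_three, Odd.neg_pow (by decide : Odd 3)]

theorem exists_pmat : ∃ g : SU₃, smat g = !![0, 0, 1; 1, 0, 0; 0, 1, 0] := by
  refine exists_el_of hF (by simp [Matrix.det_fin_three]) ?_
  ext i j
  fin_cases i <;> fin_cases j <;> simp [Matrix.mul_apply, Fin.sum_univ_three]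

theorem exists_hmat {i : F} (hi : i * i = -1) :
    ∃ g : SU₃, smat g = !![1 + i, 1 + i, 0; -(1 - i), 1 - i, 0; 0, 0, 1] := by
  have h3 := Cfsg.Lib.U33.NineField.three (F := F) hF
  refine exists_el_of hF ?_ ?_
  · rw [Matrix.det_fin_three]
    simp
    linear_combination (-2) * hi + h3
  · ext a b
    fin_cases a <;> fin_cases b <;> simp [Matrix.mul_apply, Fin.sum_univ_three] <;> grind

theorem split_su : Split 2 SU₃ := by
  classical
  haveI := Cfsg.Lib.U33.isSimple_su (F := F) hF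
  haveI : Fact (Nat.Prime 2) := ⟨Nat.prime_two⟩
  have h3 := Cfsg.Lib.U33.NineField.three (F := F) hF
  have h2 := Cfsg.Lib.U33.NineField.two_ne (F := F) hF
  obtain ⟨i, hi⟩ := exists_i hF
  have hi0 : i ≠ 0 := fun h => by rw [h, mul_zero] at hi; exact one_ne_zero (by linear_combination hi)
  have h4 : i ^ 4 = 1 := by linear_combination (i * i - 1) * hi
  have hi2 : i ^ 2 = -1 := by rw [pow_two, hi]
  have hinj : ∀ a b : ℕ, a < 4 → b < 4 → i ^ a = i ^ b → a = b := by
    have ho : orderOf i = 2 ^ (1 + 1) := orderOf_eq_prime_pow (by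
      rw [show (2 : ℕ) ^ 1 = 2 from rfl, hi2]
      exact fun h => h2 (by linear_combination -h)) h4
    intro a b ha hb e
    exact pow_injOn_Iio_orderOf (by rw [ho]; exact ha) (by rw [ho]; exact hb) e
  choose de hde using fun a b => exists_diag_el hF hi a b
  obtain ⟨w, hw⟩ := exists_wmat' hF
  obtain ⟨P, hP⟩ := exists_pmat hF
  obtain ⟨h, hh⟩ := exists_hmat hF hi
  set U := monoSyl hF with hU
  have hdeD : ∀ a b, IsD (de a b) := fun a b => by simp [IsD, Blk, hde]
  have hwW : IsW w := by simp [IsW, Blk, hw]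
  have hwU : w ∈ U := Or.inr hwW
  -- the order of `U`
  have hK : Nat.card SU₃ = 6048 := Cfsg.Lib.U33.card_su hF
  have h32 : 32 ≤ Nat.card U := by
    let f : Fin 4 × Fin 4 × Bool → U := fun x => bif x.2.2 then ⟨de x.1 x.2.1 * w, mul_mem (Or.inl (hdeD _ _)) hwU⟩
      else ⟨de x.1 x.2.1, Or.inl (hdeD _ _)⟩
    have hf : Function.Injective f := by
      rintro ⟨a, b, s⟩ ⟨a', b', s'⟩ e
      have e' := congrArg (fun x : U => smat (x : SU₃)) e
      cases s <;> cases s' <;> simp only [f, cond_true, cond_false] at e'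
      · have e0 := congrFun (congrFun e' 0) 0
        have e1 := congrFun (congrFun e' 1) 1
        simp [hde] at e0 e1
        rw [Fin.ext (hinj _ _ a.2 a'.2 e0), Fin.ext (hinj _ _ b.2 b'.2 e1)]
      · have e0 := congrFun (congrFun e' 0) 0
        simp [hde, smat_mul', hw, Matrix.mul_apply, Fin.sum_univ_three, hi0] at e0
      · have e0 := congrFun (congrFun e' 0) 0
        simp [hde, smat_mul', hw, Matrix.mul_apply, Fin.sum_univ_three] at e0
        exact absurd e0.symm (pow_ne_zero _ hi0)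
      · have e0 := congrFun (congrFun e' 0) 1
        have e1 := congrFun (congrFun e' 1) 0
        simp [hde, smat_mul', hw, Matrix.mul_apply, Fin.sum_univ_three] at e0 e1
        rw [Fin.ext (hinj _ _ a.2 a'.2 e0), Fin.ext (hinj _ _ b.2 b'.2 e1)]
    exact le_trans (by simp) (Nat.card_le_card_of_injective f hf)
  have hUp : IsPGroup 2 U := isPGroup_monoSyl hF
  have hUc : Nat.card U = 32 := by
    obtain ⟨k, hk⟩ := IsPGroup.iff_card.1 hUp
    have hd : 2 ^ k ∣ 32 * 189 := by rw [← hk, show 32 * 189 = 6048 from rfl, ← hK]; exact Subgroup.card_subgroup_dvd_card _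
    have hd' : 2 ^ k ∣ 32 := ((Nat.prime_two.coprime_iff_not_dvd.2 (by norm_num : ¬ 2 ∣ 189)).pow_left k).dvd_of_dvd_mul_right hd
    have := Nat.le_of_dvd (by norm_num) hd'
    omega
  have hUi : U.index = 189 := by
    have h1 := U.card_mul_index
    rw [hUc, hK] at h1; omega
  have hB : Base 2 U := by
    refine ⟨hUp, by rw [hUi]; norm_num, fun hn => ?_⟩
    haveI := Subgroup.normalizer_eq_top_iff.1 hn
    rcases IsSimpleGroup.eq_bot_or_eq_top_of_normal U inferInstance with e | e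
    · rw [e, Subgroup.card_bot] at hUc; omega
    · rw [e, Subgroup.index_top] at hUi; omega
  -- a proper overgroup that is larger
  have hbig : ∀ M : Subgroup SU₃, U ≤ M → M ≠ ⊤ → M ≠ U → M.index = 63 := by
    intro M hUM hMt hMU
    have hd : M.index ∣ 189 := hUi ▸ Subgroup.index_dvd_of_le hUM
    have h28 : 28 ≤ M.index := by
      let e : SU₃ ≃* Cfsg.PSU 3 F 3 :=
        (QuotientGroup.quotientBot (G := SU₃)).symm.trans (QuotientGroup.quotientMulEquivOfEq (Cfsg.Lib.U33.center_su hF).symm)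
      have h := (Cfsg.Agent.S2148.result (F := F) 3 hF le_rfl (by norm_num)).1
        (M.map e.toMonoidHom) (fun h => hMt (Subgroup.map_injective e.injective (by
          rw [h, Subgroup.map_top_of_surjective _ e.surjective])))
      rw [show (M.map e.toMonoidHom).index = M.index from Subgroup.index_map_equiv M e] at h
      simpa using h
    have hne : M.index ≠ 189 := fun h => hMU (Subgroup.eq_of_le_of_card_ge hUM (by
      have h1 := M.card_mul_index
      rw [h, hK] at h1
      rw [hUc]; omega)).symm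
    have hmem : M.index ∈ Nat.divisors 189 := Nat.mem_divisors.2 ⟨hd, by norm_num⟩
    rw [show Nat.divisors 189 = {1, 3, 7, 9, 21, 27, 63, 189} from rfl] at hmem
    simp only [Finset.mem_insert, Finset.mem_singleton] at hmem
    omega
  -- the central involution
  obtain ⟨z, hzm, hzD⟩ : ∃ z : SU₃, smat z = Matrix.diagonal ![-1, -1, 1] ∧ IsD z := ⟨de 2 2, by
    rw [hde, hi2, show i ^ (3 * (2 + 2)) = 1 by rw [show 3 * (2 + 2) = 4 * 3 by norm_num, pow_mul, h4, one_pow]],
    hdeD _ _⟩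
  have hzU : z ∈ U := Or.inl hzD
  have hz1 : z ≠ 1 := fun e => h2 (by
    have := congrFun (congrFun (congrArg smat e) 0) 0
    rw [hzm, show smat (1 : SU₃) = 1 from rfl] at this
    simp at this
    linear_combination -this)
  have hzblk : ∀ g : SU₃, Blk g → z * g = g * z := by
    rintro g ⟨a, b, c, d⟩
    refine smat_inj' ?_
    ext x y
    fin_cases x <;> fin_cases y <;> simp [smat_mul', hzm, Matrix.mul_apply, Fin.sum_univ_three, *]
  have hzz : z * z = 1 := smat_inj' (by
    rw [smat_mul', hzm, Matrix.diagonal_mul_diagonal, show smat (1 : SU₃) = 1 from rfl, Matrix.diagonal_eq_one]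
    ext x; fin_cases x <;> simp)
  -- a commutator
  obtain ⟨d, hdm, hdD, hdS⟩ : ∃ d : SU₃, smat d = Matrix.diagonal ![i, -i, 1] ∧ IsD d ∧
      ∃ u ∈ U, ∃ v ∈ U, d = u * v * u⁻¹ * v⁻¹ := by
    refine ⟨_, ?_, isD_comm hF (Or.inl (hdeD 1 0)) hwU, _, Or.inl (hdeD 1 0), w, hwU, rfl⟩
    have e1 : i ^ 3 = -i := by linear_combination i * hi
    ext x y
    fin_cases x <;> fin_cases y <;>
      simp [smat_mul', smat_inv' hF, hde, hw, Matrix.mul_apply, Fin.sum_univ_three, Odd.neg_pow (by decide : Odd 3)] <;>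
      grind
  have hcommd : ∀ u ∈ U, u * d = d * u → IsD u := by
    rintro u hu e
    rcases hu with hu | ⟨⟨a, b, c, dd⟩, e0, e1⟩
    · exact hu
    have e' := congrArg smat e
    have x01 := congrFun (congrFun e' 0) 1
    have x10 := congrFun (congrFun e' 1) 0
    simp [smat_mul', hdm, Matrix.mul_apply, Fin.sum_univ_three, a, b, c, dd, e0, e1] at x01 x10
    refine ⟨⟨a, b, c, dd⟩, ?_, ?_⟩
    · have : (2 : F) * i * smat u 0 1 = 0 := by linear_combination -x01
      simpa [h2, hi0] using this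
    · have : (2 : F) * i * smat u 1 0 = 0 := by linear_combination x10
      simpa [h2, hi0] using this
  set S : Set SU₃ := {g | ∃ u ∈ U, ∃ v ∈ U, g = u * v * u⁻¹ * v⁻¹} with hS
  set T := U ⊓ centralizer S with hT
  have hTD : ∀ g, g ∈ T ↔ IsD g := by
    intro g
    refine ⟨fun hg => hcommd g hg.1 ((Subgroup.mem_centralizer_iff.1 hg.2 d hdS).symm), fun hg => ?_⟩
    refine Subgroup.mem_inf.2 ⟨Or.inl hg, Subgroup.mem_centralizer_iff.2 ?_⟩
    rintro _ ⟨u, hu, v, hv, rfl⟩
    exact isD_comm_mul hF (isD_comm hF hu hv) hg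
  have hTne : T ≠ ⊥ := fun e => by
    have h1 : d ∈ T := (hTD d).2 hdD
    rw [e, Subgroup.mem_bot] at h1
    have := congrFun (congrFun (congrArg smat h1) 0) 0
    rw [hdm, show smat (1 : SU₃) = 1 from rfl] at this
    simp at this
    rw [this, mul_one] at hi
    exact h2 (by linear_combination hi)
  have hTt : T ≠ ⊤ := fun e => by
    have h1 := ((hTD w).1 (e ▸ Subgroup.mem_top w)).2.1
    rw [hw] at h1
    simp at h1
  have hnorm : ∀ g : SU₃, (∀ t, IsD t → IsD (g * t * g⁻¹)) → g ∈ normalizer (T : Set SU₃) := fun g hg => by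
    refine mem_normalizer_iff_map_conj_eq.2 (Subgroup.eq_of_le_of_card_ge ?_
      (Nat.card_congr (T.equivMapOfInjective _ (MulAut.conj g).injective).toEquiv).le)
    rintro _ ⟨t, ht, rfl⟩
    exact (hTD _).2 (hg t ((hTD t).1 ht))
  set A := centralizer ({z} : Set SU₃) with hA
  set B := normalizer (T : Set SU₃) with hBdef
  have hUA : U ≤ A := fun u hu => Subgroup.mem_centralizer_singleton_iff.2 (hzblk u (hu.elim (·.1) (·.1))).symm
  have hUB : U ≤ B := fun u hu => hnorm u fun t ht => by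
    rcases hu with hu | hu
    · exact mul_DD (mul_DD hu ht) (inv_D hF hu)
    · exact mul_WW (mul_WD hu ht) (inv_W hF hu)
  have hPB : P ∈ B := hnorm P fun t ht => by
    obtain ⟨⟨a, b, c, dd⟩, e, f⟩ := ht
    simp [IsD, Blk, smat_mul', smat_inv' hF, hP, Matrix.mul_apply, Matrix.vecMul, dotProduct, Fin.sum_univ_three, *]
  have hPA : P ∉ A := fun hp => h2 (by
    have := congrFun (congrFun (congrArg smat (Subgroup.mem_centralizer_singleton_iff.1 hp)) 0) 2
    simp [smat_mul', hzm, hP, Matrix.mul_apply, Fin.sum_univ_three] at this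
    linear_combination this)
  have hAt : A ≠ ⊤ := fun e => hz1 (by
    have : z ∈ Subgroup.center SU₃ := Subgroup.mem_center_iff.2 fun g =>
      Subgroup.mem_centralizer_singleton_iff.1 (e ▸ Subgroup.mem_top g : g ∈ A)
    rwa [Cfsg.Lib.U33.center_su hF, Subgroup.mem_bot] at this)
  have hBt : B ≠ ⊤ := fun e => by
    haveI := Subgroup.normalizer_eq_top_iff.1 e
    rcases IsSimpleGroup.eq_bot_or_eq_top_of_normal T inferInstance with h1 | h1
    exacts [hTne h1, hTt h1]
  have hhA : h ∈ A := Subgroup.mem_centralizer_singleton_iff.2 (hzblk h (by simp [Blk, hh])).symm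
  have hhU : h ∉ U := by
    have hne : (1 : F) + i ≠ 0 := fun e => h2 (by linear_combination (1 - i) * e + hi)
    rintro (⟨-, e, -⟩ | ⟨-, e, -⟩) <;> rw [hh] at e <;> exact hne (by simpa using e)
  have hsup : A ⊔ B = ⊤ := by
    by_contra hne
    have h1 := hbig A hUA hAt fun e => hhU (e ▸ hhA)
    have h2 := hbig (A ⊔ B) (hUA.trans le_sup_left) hne fun e => hhU (e ▸ Subgroup.mem_sup_left hhA)
    have e : A = A ⊔ B := Subgroup.eq_of_le_of_card_ge le_sup_left (by
      have c1 := A.card_mul_index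
      have c2 := (A ⊔ B).card_mul_index
      rw [h1, hK] at c1
      rw [h2, hK] at c2
      omega)
    exact hPA (e ▸ Subgroup.mem_sup_right hPB)
  refine ⟨U, A, B, hB, hUA, hUB, hAt, hBt, hsup, fun θ hθ => ?_⟩
  have himg : ∀ v ∈ U, ∃ u ∈ U, θ u = v := fun v hv => by
    rw [← hθ.2] at hv
    exact hv
  have hkeep : ∀ u ∈ U, θ u ∈ U := fun u hu => hθ.2 ▸ Subgroup.mem_map_of_mem θ.toMonoidHom hu
  have hθz : θ z = z := by
    rcases hkeep z hzU with hD | hW
    rotate_left
    · exfalso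
      have hc : θ z * d = d * θ z := by
        obtain ⟨u, hu, e⟩ := himg d (Or.inl hdD)
        rw [← e, ← map_mul, ← map_mul, hzblk u (hu.elim (·.1) (·.1))]
      have hD := (hcommd _ (Or.inr hW) hc).2.1
      have h00 := hW.2.1
      have hform := congrFun (congrFun (smat_form hF (θ z)⁻¹) 0) 0
      simp [smat_inv' hF, Matrix.mul_apply, Fin.sum_univ_three, hD, h00, hW.1.1] at hform
    obtain ⟨u, hu, e⟩ := himg w hwU
    have hc : θ z * w = w * θ z := by rw [← e, ← map_mul, ← map_mul, hzblk u (hu.elim (·.1) (·.1))]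
    have hsq : θ z * θ z = 1 := by rw [← map_mul, hzz, map_one]
    have hne : θ z ≠ 1 := fun e => hz1 (θ.injective (e.trans (map_one θ).symm))
    obtain ⟨⟨a, b, c, dd⟩, e01, e10⟩ := hD
    have q01 := congrFun (congrFun (congrArg smat hc) 0) 1
    have s00 := congrFun (congrFun (congrArg smat hsq) 0) 0
    have s22 := congrFun (congrFun (congrArg smat hsq) 2) 2
    have hdet := smat_det (θ z)
    rw [show smat (1 : SU₃) = 1 from rfl] at s00 s22
    simp [smat_mul', hw, Matrix.mul_apply, Fin.sum_univ_three, Matrix.det_fin_three, a, b, c, dd, e01, e10] at q01 s00 s22 hdet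
    have hc1 : smat (θ z) 2 2 = 1 := by
      have : smat (θ z) 0 0 * smat (θ z) 1 1 = 1 := by rw [← q01]; exact s00
      rw [this, one_mul] at hdet; exact hdet
    rcases mul_self_eq_one_iff.1 s00 with h00 | h00
    · refine absurd (smat_inj' ?_) hne
      rw [show smat (1 : SU₃) = 1 from rfl]
      ext x y
      fin_cases x <;> fin_cases y <;> simp [*] <;> rw [← q01, h00]
    · refine smat_inj' ?_
      ext x y
      fin_cases x <;> fin_cases y <;> simp [hzm, *] <;> rw [← q01, h00]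
  have hmap : ∀ H : Subgroup SU₃, (∀ g ∈ H, θ g ∈ H) → H.map θ.toMonoidHom = H := fun H hH =>
    Subgroup.eq_of_le_of_card_ge (Subgroup.map_le_iff_le_comap.2 hH)
      (Nat.card_congr (H.equivMapOfInjective _ θ.injective).toEquiv).le
  refine ⟨hmap A fun g hg => ?_, ?_⟩
  · refine Subgroup.mem_centralizer_singleton_iff.2 ?_
    rw [← hθz, ← map_mul, ← map_mul, Subgroup.mem_centralizer_singleton_iff.1 hg]
  · have hTm : T.map θ.toMonoidHom = T := hmap T fun g hg => by
      refine Subgroup.mem_inf.2 ⟨hkeep g hg.1, Subgroup.mem_centralizer_iff.2 ?_⟩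
      rintro _ ⟨u, hu, v, hv, rfl⟩
      obtain ⟨u', hu', rfl⟩ := himg u hu
      obtain ⟨v', hv', rfl⟩ := himg v hv
      rw [← map_inv, ← map_inv, ← map_mul, ← map_mul, ← map_mul, ← map_mul, ← map_mul,
        Subgroup.mem_centralizer_iff.1 hg.2 _ ⟨u', hu', v', hv', rfl⟩]
    rw [hBdef, Subgroup.map_equiv_normalizer_eq, hTm]

omit hF in
theorem kind_u33 {K : Type*} [Group K] (hF : Fintype.card F = 9) (e : K ≃* Cfsg.PSU 3 F 3) : Kind 2 K :=
  have hF' : Fintype.card F = 3 ^ 2 := by rw [hF]; norm_num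
  Or.inr (Or.inl (Split.of_equiv ((((QuotientGroup.quotientBot (G := SU₃)).symm.trans
    (QuotientGroup.quotientMulEquivOfEq (Cfsg.Lib.U33.center_su hF').symm))).trans e.symm) (split_su hF')))

end Cfsg.Lib.DefChar.PMin
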